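import Groth.Agent.Lib.EllGroup15.Family
import Groth.Agent.Lib.RelDiv.Smooth
import Groth.Agent.Lib.RelDiv.HilbFun
import Groth.Agent.Lib.GrowthBd20.Base
import Groth.Agent.Lib.HodgeIndex.Pullback
import Mathlib.AlgebraicGeometry.ZariskisMainTheorem

/-!
# Bundles with one section on every fibre are bundles of relative divisors
-/

set_option autoImplicit false
set_option linter.all false
set_option backward.isDefEq.respectTransparency false
set_option maxHeartbeats 2000000
set_option synthInstance.maxHeartbeats 200000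

universe u

open CategoryTheory CategoryTheory.Limits AlgebraicGeometry TopologicalSpace Opposite
open GrothLib.InvExt (mres fres IsGen)
open GrothLib.Cube (Pic clsMod pull HasCls hasCls_clsMod)
open GrothLib.SmCurveFam GrothLib.EllGroup15

noncomputable section

namespace GrothLib.RigRep26

variable {C S : Scheme.{u}} (f : C ⟶ S)

/-- One section and no first cohomology on the fibre. -/
def Good (L : C.Modules) (y : S) : Prop :=
  CohIII.fiberRank f L 1 y = 0 ∧ CohIII.fiberRank f L 0 y = 1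

theorem fiberRank_iso [IsProper f] {L M : C.Modules} (y : S)
    (e : CohIII.fiberMod f L y ≅ CohIII.fiberMod f M y) (p : ℕ) :
    CohIII.fiberRank f L p y = CohIII.fiberRank f M p y :=
  (fiberRank_congr f L p y e).1.trans (fiberRank_congr f M p y (Iso.refl _)).1.symm

theorem good_congr [IsProper f] {L M : C.Modules} (hL : PicF.IsInvertible L) (hM : PicF.IsInvertible M) {n : Pic S}
    (h : clsMod hL = clsMod hM * pull f n) (y : S) : Good f L y ↔ Good f M y := by
  obtain ⟨e⟩ := clsMod_fiber_twist f hL hM h y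
  rw [Good, Good, fiberRank_iso f y e, fiberRank_iso f y e]

theorem good_pullback [IsProper f] {C' S' : Scheme.{u}} {g : S' ⟶ S} {f' : C' ⟶ S'} {g' : C' ⟶ C}
    (hc : IsPullback g' f' f g) {L : C.Modules} (hL : PicF.IsInvertible L) (y : S') :
    Good f' ((Scheme.Modules.pullback g').obj L) y ↔ Good f L (g y) := by
  haveI := InvExt.isQuasicoherent_of_isInvertible hL
  rw [Good, Good, GrowthBd.fiberRank_baseChange hc L 1 y, GrowthBd.fiberRank_baseChange hc L 0 y]

/-- An effective Cartier ideal cutting out a finite flat subscheme. -/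
def IsRelDiv (I : C.IdealSheafData) : Prop :=
  _root_.BlowUp.IsEffCartierIdeal I ∧ Mor2.IsFinLocFree (I.subschemeι ≫ f)

variable {f}

/-- The class of the ideal. -/
def idCl {I : C.IdealSheafData} (h : IsRelDiv f I) : Pic C :=
  clsMod (IdealModSec.isInvertible_of_isEffCartier h.1)

theorem idCl_congr {I J : C.IdealSheafData} (h : IsRelDiv f I) (h' : IsRelDiv f J) (e : I = J) :
    idCl h = idCl h' := by subst e; rfl

theorem idCl_comap {C' S' : Scheme.{u}} {f' : C' ⟶ S'} (g' : C' ⟶ C) {I : C.IdealSheafData}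
    (h : IsRelDiv f I) (h' : IsRelDiv f' (I.comap g')) : idCl h' = pull g' (idCl h) := by
  have key : ∀ (J : C.IdealSheafData) (J' : C'.IdealSheafData) (hJ : I.subschemeι.ker = J)
      (hJ' : (I.comap g').subschemeι.ker = J') (a : PicF.IsInvertible (ClSub.idealMod J))
      (b : PicF.IsInvertible (ClSub.idealMod J')), clsMod b = pull g' (clsMod a) := by
    rintro _ _ rfl rfl a b
    obtain ⟨e⟩ := HodgeIndex.nonempty_pullback_idealMod I.subschemeι (I.comap g').subschemeι
      ((I.comapIso g').hom ≫ pullback.snd _ _) g'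
      (by rw [Category.assoc, ← pullback.condition, Scheme.IdealSheafData.comapIso_hom_fst_assoc])
      (by rw [Scheme.IdealSheafData.ker_subschemeι, Scheme.IdealSheafData.ker_subschemeι]) a b
    rw [← Cube.clsMod_pullback _ a]
    exact (Cube.clsMod_eq_iff _ _).2 ⟨e.symm⟩
  exact key I _ (Scheme.IdealSheafData.ker_subschemeι I) (Scheme.IdealSheafData.ker_subschemeι _) _ _

variable (f)

/-- A nonzero section of an invertible module on an integral scheme cuts out an effective Cartier ideal. -/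
theorem isEffCartier_of_ne_zero {X : Scheme.{u}} [IsIntegral X] {L : X.Modules} (hL : PicF.IsInvertible L)
    {I : X.IdealSheafData} {s : Γ(L, ⊤)} (hs : IsCanSec I L s) (h0 : s ≠ 0) :
    _root_.BlowUp.IsEffCartierIdeal I := by
  intro p
  obtain ⟨T, e, r, hpT, he, hr, hI⟩ := hs p
  refine ⟨T, hpT, r, ?_, hI⟩
  haveI : Nonempty T.1 := ⟨⟨p, hpT⟩⟩
  refine mem_nonZeroDivisors_of_ne_zero fun hr0 => h0 ?_
  rw [hr0, zero_smul] at hr
  choose V ε hqV hε using fun q : X => InvExt.exists_gen_nhd hL q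
  refine TopCat.Sheaf.eq_of_locally_eq' ⟨L.presheaf, L.isSheaf⟩ V ⊤ (fun q => homOfLE le_top)
    (fun q _ => Opens.mem_iSup.2 ⟨q, hqV q⟩) _ _ fun q => ?_
  show mres L (le_top : V q ≤ ⊤) s = mres L (le_top : V q ≤ ⊤) 0
  obtain ⟨a, ha⟩ := (hε q).exists_smul_eq le_rfl (mres L (le_top : V q ≤ ⊤) s)
  rw [InvExt.mres_self] at ha
  have hne : ((V q : Set X) ∩ (T.1 : Set X)).Nonempty :=
    nonempty_preirreducible_inter (V q).2 T.1.2 ⟨q, hqV q⟩ ⟨p, hpT⟩
  have h1 : fres X (inf_le_left : V q ⊓ T.1 ≤ V q) a = 0 := by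
    refine ((hε q).restrict inf_le_left).smul_left_injective le_rfl ?_
    rw [InvExt.mres_self, zero_smul, ← InvExt.mres_smul, ← ha, InvExt.mres_mres]
    have h2 := congrArg (mres L (inf_le_right : V q ⊓ T.1 ≤ T.1)) hr
    rw [InvExt.mres_mres] at h2
    rw [h2]
    exact map_zero _
  haveI : Nonempty ↥(V q ⊓ T.1 : X.Opens).toScheme := ⟨⟨hne.some, hne.some_mem⟩⟩
  have h3 : a = 0 := map_injective_of_isIntegral X (homOfLE (inf_le_left : V q ⊓ T.1 ≤ V q)) (h1.trans (map_zero _).symm)
  rw [ha, h3, zero_smul]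
  exact (map_zero _).symm

variable [IsProper f] [Smooth f] [GeometricallyConnected f]
  (hdim : ∀ s : S, topologicalKrullDim ↥(f.fiber s) = 1)

/-- The good locus is open. -/
theorem isOpen_good {L : C.Modules} (hL : PicF.IsInvertible L) : IsOpen {y | Good f L y} := by
  haveI := InvExt.isQuasicoherent_of_isInvertible hL
  haveI : Coh.IsQCoh L := InvExt.isQuasicoherent_of_isInvertible hL
  have hFP : CohB1.IsFP L := LocFree8.isFP_of_isFinLocFree L (Euler.isFinLocFree_of_isInvertible hL)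
  have hfl := Seesaw26.isFlatOver_of_isInvertible f hL
  refine isOpen_iff_forall_mem_open.2 fun y hy => ?_
  obtain ⟨U, hyU, -, hU⟩ := BCCrit.exists_zero_near hFP hfl 1 y hy.1
  have hgood := (BCCrit.goodAll_of_fiberRank_eq_zero (f := f) (F := L) 1 y hy.1).2
  rw [show ((1 : ℕ) : ℤ) - 1 = ((0 : ℕ) : ℤ) by norm_num] at hgood
  obtain ⟨V, n, hyV, -, hn⟩ := BCCrit.exists_free_near0 hFP hfl y hgood
  obtain rfl : n = 1 := (hn y hyV).symm.trans hy.2
  exact ⟨(U ⊓ V : S.Opens), fun z hz => ⟨hU z hz.1, hn z hz.2⟩, (U ⊓ V).2, ⟨hyU, hyV⟩⟩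

theorem goodAll_of_good {L : C.Modules} (hL : PicF.IsInvertible L) {y : S} (h : Good f L y) :
    BCCrit.GoodAll f L ((0 : ℕ) : ℤ) y := by
  haveI : L.IsQuasicoherent := InvExt.isQuasicoherent_of_isInvertible hL
  haveI : Coh.IsQCoh L := ‹L.IsQuasicoherent›
  have := (BCCrit.goodAll_of_fiberRank_eq_zero (f := f) (F := L) 1 y h.1).2
  rwa [show ((1 : ℕ) : ℤ) - 1 = ((0 : ℕ) : ℤ) by norm_num] at this

variable {L : C.Modules} (hL : PicF.IsInvertible L) (hgood : ∀ y, Good f L y)

include hL hgood in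
theorem isInvertible_push : PicF.IsInvertible ((Scheme.Modules.pushforward f).obj L) := fun y => by
  haveI := InvExt.isQuasicoherent_of_isInvertible hL
  haveI : Coh.IsQCoh L := InvExt.isQuasicoherent_of_isInvertible hL
  have hFP : CohB1.IsFP L := LocFree8.isFP_of_isFinLocFree L (Euler.isFinLocFree_of_isInvertible hL)
  obtain ⟨U, n, hy, ⟨φ⟩, hn⟩ := BCCrit.exists_free_near0 hFP (Seesaw26.isFlatOver_of_isInvertible f hL) y
    (goodAll_of_good f hL (hgood y))
  obtain rfl : n = 1 := (hn y hy).symm.trans (hgood y).2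
  exact ⟨U, hy, ⟨φ ≪≫ coproductUniqueIso fun _ : Fin 1 => Coh.structureModule (↑U)⟩⟩

include hL hgood in
/-- A generator of the direct image does not vanish on any fibre. -/
theorem pullRes_gen_ne_zero
    {σ : Γ((Scheme.Modules.pushforward f).obj L, ⊤)} (hσ : IsGen ((Scheme.Modules.pushforward f).obj L) ⊤ σ) (y : S) :
    BCCoh.pullRes (f.fiberι y) L (f ⁻¹ᵁ ⊤) (f.fiberToSpecResidueField y ⁻¹ᵁ ⊤) le_top σ ≠ 0 := by
  intro h0
  haveI : L.IsQuasicoherent := InvExt.isQuasicoherent_of_isInvertible hL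
  haveI : Coh.IsQCoh L := ‹L.IsQuasicoherent›
  let κ := S.residueField y
  let fs := f.fiberToSpecResidueField y
  haveI : Subsingleton ↥(Spec κ) := inferInstanceAs (Subsingleton (PrimeSpectrum κ))
  let b := CohBC.bc0 f (S.fromSpecResidueField y) fs (f.fiberι y) (f.fiber_fac y) L
  let N := (Scheme.Modules.pushforward f).obj L
  have he : (⊤ : (Spec κ).Opens) ≤ S.fromSpecResidueField y ⁻¹ᵁ (⊤ : S.Opens) := le_top
  have hepi : Epi b := (BCCrit.goodAll_iff_epi0 (LocFree8.isFP_of_isFinLocFree _ (Euler.isFinLocFree_of_isInvertible hL))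
    (Seesaw26.isFlatOver_of_isInvertible f hL) y).1 (goodAll_of_good f hL (hgood y))
  have hsurj := (BCCrit.epi_iff_surjective b (IsLocalRing.closedPoint κ)).1 hepi
  have hgen := Seesaw26.isGen_pullRes (S.fromSpecResidueField y)
    (isInvertible_push f hL hgood) hσ ⊤ he
  have hzero : ∀ w : Γ(CohIII.fiberMod f L y, fs ⁻¹ᵁ (⊤ : (Spec κ).Opens)), w = 0 := fun w => by
    obtain ⟨v, hv⟩ := hsurj w
    obtain ⟨a, ha⟩ := hgen.exists_smul_eq le_rfl v
    rw [InvExt.mres_self] at ha
    rw [← hv, ha]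
    refine (Ample.app_smul b a _).trans ?_
    rw [BCCrit.bc0_pullRes (f.fiber_fac y) L ⊤ ⊤ he le_top σ, h0, smul_zero]
  have hr := (hgood y).2
  let N' := CohIII.fiberMod f L y
  let eH : Coh.HH (f.fiber y) N' 0 ≃+ Γ(N', (⊤ : (f.fiber y).Opens)) :=
    Sheaf.H.equiv₀ (Coh.toAb N') (T := (⊤ : (f.fiber y).Opens)) isTerminalTop
  haveI : Subsingleton (Coh.HH (f.fiber y) N' 0) :=
    ⟨fun p q => eH.injective ((hzero _).trans (hzero _).symm)⟩
  rw [(fiberRank_congr f L 0 y (Iso.refl _)).1] at hr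
  letI : (f.fiber y).Over (Spec (CommRingCat.of (S.residueField y))) := ⟨f.fiberToSpecResidueField y⟩
  rw [Module.finrank_zero_of_subsingleton] at hr
  omega

include hdim hL hgood in
/-- A bundle with one section and trivial direct image is the bundle of a relative divisor. -/
theorem exists_relDiv_of_push_trivial (φ : Coh.structureModule S ≅ (Scheme.Modules.pushforward f).obj L) :
    ∃ (I : C.IdealSheafData) (h : IsRelDiv f I), clsMod hL = (idCl h)⁻¹ := by
  let N := (Scheme.Modules.pushforward f).obj L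
  let σ : Γ(N, ⊤) := φ.hom.app ⊤ (1 : Γ(S, ⊤))
  have hone : IsGen (Coh.structureModule S) ⊤ (show Γ(Coh.structureModule S, ⊤) from (1 : Γ(S, ⊤))) := by
    intro W hW
    have h1 : ∀ a : Γ(S, W),
        a • mres (Coh.structureModule S) hW (show Γ(Coh.structureModule S, ⊤) from (1 : Γ(S, ⊤))) = a := fun a =>
      (show a * (S.presheaf.map (homOfLE hW).op).hom 1 = a by rw [map_one, mul_one])
    exact ⟨fun a b hab => (h1 a).symm.trans (hab.trans (h1 b)), fun n => ⟨n, h1 n⟩⟩
  have hσ : IsGen N ⊤ σ := InvExt.IsGen.map φ.hom hone fun W _ =>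
    ConcreteCategory.bijective_of_isIso (φ.hom.app W)
  let s : Γ(L, ⊤) := σ
  let I := PicF2.zeroScheme L (OX.ofTop (N := L) s)
  have hI : IsCanSec I L s := isCanSec_zeroScheme hL s
  have hCy : ∀ y, _root_.BlowUp.IsEffCartierIdeal (I.comap (f.fiberι y)) := fun y => by
    obtain ⟨h1, h2, h3, -⟩ := fiber_props f y
    letI : (f.fiber y).Over (Spec (CommRingCat.of (S.residueField y))) := ⟨f.fiberToSpecResidueField y⟩
    haveI : IsProper (f.fiber y ↘ Spec (CommRingCat.of (S.residueField y))) := h1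
    haveI : Smooth (f.fiber y ↘ Spec (CommRingCat.of (S.residueField y))) := h2
    haveI : GeometricallyConnected (f.fiber y ↘ Spec (CommRingCat.of (S.residueField y))) := h3
    haveI := (CurveMult.OmegaField.integral_and_h0 (S.residueField y) (f.fiber y)).1
    exact isEffCartier_of_ne_zero (Ample.isInvertible_pullback _ hL) (isCanSec_pullback (f.fiberι y) hL hI)
      (pullRes_gen_ne_zero f hL hgood hσ y)
  obtain ⟨hC, hflat⟩ := Groth.Agent.S8848.result f I (isLocPrincipal_zeroScheme hL s) hCy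
  haveI : Flat (I.subschemeι ≫ f) := hflat
  haveI := smoothOfRelativeDimension_one f hdim
  haveI : LocallyQuasiFinite (I.subschemeι ≫ f) := RelDiv.locallyQuasiFinite_of_isEffCartier f hC
  haveI : LocallyOfFinitePresentation (I.subschemeι ≫ f) := RelDiv.locallyOfFinitePresentation_of_isEffCartier f hC
  haveI : IsFinite (I.subschemeι ≫ f) := IsFinite.of_isProper_of_locallyQuasiFinite _
  refine ⟨I, ⟨hC, ⟨inferInstance, inferInstance, inferInstance⟩⟩, ?_⟩
  exact Cube.clsMod_eq_inv_of_isInverseOf hL (IdealModSec.isInvertible_of_isEffCartier hC)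
    (isInverseOf_of_isCanSec hC hI)

include hdim hL hgood in
/-- **Classes with one section on every fibre come from relative divisors.** -/
theorem exists_relDiv : ∃ (I : C.IdealSheafData) (h : IsRelDiv f I) (n : Pic S),
    clsMod hL = (idCl h)⁻¹ * pull f n := by
  let N := (Scheme.Modules.pushforward f).obj L
  have hN : PicF.IsInvertible N := isInvertible_push f hL hgood
  obtain ⟨hN', hN'c⟩ := Dual.hasCls_rep ((clsMod hN)⁻¹)
  let N' := Dual.rep ((clsMod hN)⁻¹)
  let L' := CohB1.tensorMod ((Scheme.Modules.pullback f).obj N') L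
  have hfN' := Ample.isInvertible_pullback f hN'
  have hL' : PicF.IsInvertible L' := Ample.isInvertible_tensorMod hfN' hL
  have hcls : clsMod hL' = clsMod hL * pull f ((clsMod hN)⁻¹) := by
    rw [Cube.clsMod_tensorMod hfN' hL, Cube.clsMod_pullback f hN', hN'c, mul_comm]
  have hg' : ∀ y, Good f L' y := fun y => (good_congr f hL' hL hcls y).2 (hgood y)
  haveI := ProjFormula.isIso_projHom f (Euler.isFinLocFree_of_isInvertible hN') L
  obtain ⟨t⟩ : Nonempty (CohB1.tensorMod N' N ≅ Coh.structureModule S) :=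
    (Cube.clsMod_eq_one_iff (Ample.isInvertible_tensorMod hN' hN)).1 (by
      rw [Cube.clsMod_tensorMod hN' hN, hN'c, inv_mul_cancel])
  obtain ⟨I, h, hI⟩ := exists_relDiv_of_push_trivial f hdim hL' hg'
    (t.symm ≪≫ asIso (ProjFormula.projHom f N' L))
  refine ⟨I, h, clsMod hN, ?_⟩
  rw [← hI, hcls, map_inv, inv_mul_cancel_right]

omit [Smooth f] [GeometricallyConnected f] in
include hdim in
/-- A relative divisor does not contain a fibre. -/
theorem exists_fibre_notMem {I : C.IdealSheafData} (h : IsRelDiv f I) (y : S) :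
    ∃ z : f.fiber y, f.fiberι y z ∉ (I.support : Set C) := by
  by_contra! hall
  haveI := h.2.1
  have hfin : ((I.subschemeι ≫ f) ⁻¹' {y}).Finite := (I.subschemeι ≫ f).finite_preimage_singleton y
  haveI : Finite ↥(f.fiber y) := by
    have hsub : Set.range (f.fiberι y) ⊆ I.subschemeι '' ((I.subschemeι ≫ f) ⁻¹' {y}) := by
      rintro _ ⟨z, rfl⟩
      have hm := hall z
      rw [← Scheme.IdealSheafData.range_subschemeι] at hm
      obtain ⟨w, hw⟩ := hm
      refine ⟨w, ?_, hw⟩
      show (I.subschemeι ≫ f) w = y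
      rw [Scheme.Hom.comp_apply, hw]
      exact (f.range_fiberι y).le ⟨z, rfl⟩
    haveI := ((hfin.image I.subschemeι).subset hsub).to_subtype
    exact Finite.of_injective (fun z => (⟨f.fiberι y z, z, rfl⟩ : Set.range (f.fiberι y)))
      fun a b hab => (f.fiberι y).isEmbedding.injective (congrArg Subtype.val hab)
  have h0 : topologicalKrullDim ↥(f.fiber y) ≤ 0 := CurveMult.IdealCrit.dim_le_zero_of_finite
  rw [hdim y] at h0
  norm_num at h0

include hdim hL hgood in
/-- The canonical section is a basis of the direct image. -/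
theorem isGen_canSec {I : C.IdealSheafData} (h : IsRelDiv f I) {s : Γ(L, ⊤)} (hs : IsCanSec I L s) :
    IsGen ((Scheme.Modules.pushforward f).obj L) ⊤ (mres L (le_top : f ⁻¹ᵁ (⊤ : S.Opens) ≤ ⊤) s) := by
  let N := (Scheme.Modules.pushforward f).obj L
  let σ : Γ(N, ⊤) := mres L (le_top : f ⁻¹ᵁ (⊤ : S.Opens) ≤ ⊤) s
  have hloc : ∀ y : S, ∃ W : S.Opens, y ∈ W ∧ IsGen N W (mres N (le_top : W ≤ ⊤) σ) := by
    intro y
    obtain ⟨V, e₀, hyV, he₀⟩ := InvExt.exists_gen_nhd (isInvertible_push f hL hgood) y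
    obtain ⟨a, ha⟩ := he₀.exists_smul_eq le_rfl (mres N (le_top : V ≤ ⊤) σ)
    rw [InvExt.mres_self] at ha
    have hya : y ∈ S.basicOpen a := by
      obtain ⟨z, hz⟩ := exists_fibre_notMem f hdim h y
      let p := f.fiberι y z
      have hp : f p = y := (f.range_fiberι y).le ⟨z, rfl⟩
      obtain ⟨W, hW, hpW, hgen⟩ := (VA.genAt_mres (h := (le_top : f ⁻¹ᵁ V ≤ ⊤)) s).2
        ⟨show f p ∈ V by rw [hp]; exact hyV, hs.genAt hz⟩
      have ha' : mres L (le_top : f ⁻¹ᵁ V ≤ ⊤) s = f.app V a • (show Γ(L, f ⁻¹ᵁ V) from e₀) := by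
        refine Eq.trans ?_ ha
        exact (InvExt.mres_mres L _ _ s).symm
      obtain ⟨d, hd⟩ := hgen.exists_smul_eq le_rfl (mres L hW (show Γ(L, f ⁻¹ᵁ V) from e₀))
      rw [InvExt.mres_self] at hd
      have h1 : IsUnit (fres C hW (f.app V a)) := by
        refine IsUnit.of_mul_eq_one d (hgen.smul_left_injective le_rfl ?_)
        rw [InvExt.mres_self, mul_smul, ← hd, ← InvExt.mres_smul, ← ha', one_smul]
      have h2 : p ∈ C.basicOpen (fres C hW (f.app V a)) := by
        rw [C.basicOpen_of_isUnit h1]; exact hpW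
      rw [Scheme.basicOpen_res] at h2
      have h3 : p ∈ f ⁻¹ᵁ S.basicOpen a := by
        rw [Scheme.preimage_basicOpen]; exact h2.2
      show y ∈ S.basicOpen a
      rw [← hp]; exact h3
    refine ⟨S.basicOpen a, hya, ?_⟩
    have h4 := (he₀.restrict (S.basicOpen_le a)).smul_unit
      (u := fres S (S.basicOpen_le a) a) (RingedSpace.isUnit_res_basicOpen _ a)
    rw [← InvExt.mres_smul, ← ha, InvExt.mres_mres] at h4
    exact h4
  choose W hyW hgenW using hloc
  exact InvExt.isGen_of_cover W (fun y => le_top) (fun y _ => Opens.mem_iSup.2 ⟨y, hyW y⟩) hgenW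

include hdim hL hgood in
theorem push_trivial {I : C.IdealSheafData} (h : IsRelDiv f I) (hc : clsMod hL = (idCl h)⁻¹) :
    Nonempty ((Scheme.Modules.pushforward f).obj L ≅ Coh.structureModule S) := by
  have hinv : ClSub.IsInverseOf L (ClSub.idealMod I) :=
    (Cube.clsMod_eq_one_iff (Ample.isInvertible_tensorMod hL (IdealModSec.isInvertible_of_isEffCartier h.1))).1 (by
      rw [Cube.clsMod_tensorMod hL (IdealModSec.isInvertible_of_isEffCartier h.1), hc, idCl, inv_mul_cancel])
  obtain ⟨t, ht⟩ := exists_isCanSec h.1 hL hinv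
  have hgen := isGen_canSec f hdim hL hgood h ht
  let P := (Scheme.Modules.pushforward f).obj L
  let τ : Γ(P, ⊤) := mres L (le_top : f ⁻¹ᵁ (⊤ : S.Opens) ≤ ⊤) t
  haveI : IsIso (OX.ofTop (N := P) τ) := Scheme.Modules.Hom.isIso_iff_isIso_app.2 fun W => by
    refine (ConcreteCategory.isIso_iff_bijective _).2 ?_
    have hfun : ∀ b : Γ(S, W), (OX.ofTop (N := P) τ).app W b = b • mres P (le_top : W ≤ ⊤) τ := fun b =>
      (Mero.Zero.app_eq_smul_secVal P (OX.ofTop (N := P) τ) W b).trans (congrArg (b • ·) (secVal_ofTop τ W))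
    refine ⟨fun a b hab => hgen.smul_left_injective le_top ?_, fun m => ?_⟩
    · exact (hfun a).symm.trans (hab.trans (hfun b))
    · obtain ⟨b, hb⟩ := hgen.exists_smul_eq le_top m
      exact ⟨b, (hfun b).trans hb.symm⟩
  exact ⟨(asIso (OX.ofTop (N := P) τ)).symm⟩

include hdim hL hgood in
/-- **The divisor is determined by the class modulo the base.** -/
theorem relDiv_unique {I J : C.IdealSheafData} (hI : IsRelDiv f I) (hJ : IsRelDiv f J) (hc : clsMod hL = (idCl hI)⁻¹)
    {n : Pic S} (hn' : idCl hI = idCl hJ * pull f n) : I = J := by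
  obtain ⟨hL', hL'c⟩ := Dual.hasCls_rep ((idCl hJ)⁻¹)
  obtain ⟨hn, hnc⟩ := Dual.hasCls_rep n
  have hrel : clsMod hL' = clsMod hL * pull f n := by rw [hL'c, hc, hn', mul_inv, inv_mul_cancel_right]
  have hg' : ∀ y, Good f _ y := fun y => (good_congr f hL' hL hrel y).2 (hgood y)
  obtain ⟨p⟩ := push_trivial f hdim hL hgood hI hc
  obtain ⟨p'⟩ := push_trivial f hdim hL' hg' hJ hL'c
  let T := CohB1.tensorMod ((Scheme.Modules.pullback f).obj (Dual.rep n)) L
  have hT : PicF.IsInvertible T := Ample.isInvertible_tensorMod (Ample.isInvertible_pullback f hn) hL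
  obtain ⟨i⟩ : Nonempty (Dual.rep ((idCl hJ)⁻¹) ≅ T) := (Cube.clsMod_eq_iff hL' hT).1 (by
    rw [Cube.clsMod_tensorMod (Ample.isInvertible_pullback f hn) hL, Cube.clsMod_pullback f hn, hnc, hrel, mul_comm])
  haveI := ProjFormula.isIso_projHom f (Euler.isFinLocFree_of_isInvertible hn) L
  have h1 : n = 1 := by
    have j : CohB1.tensorMod (Dual.rep n) ((Scheme.Modules.pushforward f).obj L) ≅ Coh.structureModule S :=
      asIso (ProjFormula.projHom f (Dual.rep n) L) ≪≫ (Scheme.Modules.pushforward f).mapIso i.symm ≪≫ p'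
    have hP : PicF.IsInvertible ((Scheme.Modules.pushforward f).obj L) :=
      RelProjK.isInvertible_of_iso p Euler.isInvertible_structure
    have h2 := (Cube.clsMod_eq_one_iff (Ample.isInvertible_tensorMod hn hP)).2 ⟨j⟩
    rwa [Cube.clsMod_tensorMod hn hP, (Cube.clsMod_eq_one_iff hP).2 ⟨p⟩, mul_one, hnc] at h2
  rw [h1, map_one, mul_one] at hn'
  have hinv : ∀ {K : C.IdealSheafData} (hK : IsRelDiv f K), clsMod hL = (idCl hK)⁻¹ →
      ClSub.IsInverseOf L (ClSub.idealMod K) := fun {K} hK e =>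
    (Cube.clsMod_eq_one_iff (Ample.isInvertible_tensorMod hL (IdealModSec.isInvertible_of_isEffCartier hK.1))).1 (by
      rw [Cube.clsMod_tensorMod hL (IdealModSec.isInvertible_of_isEffCartier hK.1), e, idCl, inv_mul_cancel])
  obtain ⟨t, ht⟩ := exists_isCanSec hI.1 hL (hinv hI hc)
  obtain ⟨t', ht'⟩ := exists_isCanSec hJ.1 hL (hinv hJ (hc.trans (congrArg _ hn')))
  have g := isGen_canSec f hdim hL hgood hI ht
  have g' := isGen_canSec f hdim hL hgood hJ ht'
  let N := (Scheme.Modules.pushforward f).obj L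
  let σ : Γ(N, ⊤) := mres L (le_top : f ⁻¹ᵁ (⊤ : S.Opens) ≤ ⊤) t
  let σ' : Γ(N, ⊤) := mres L (le_top : f ⁻¹ᵁ (⊤ : S.Opens) ≤ ⊤) t'
  obtain ⟨c, hc'⟩ := g.exists_smul_eq le_rfl σ'
  obtain ⟨d, hd⟩ := g'.exists_smul_eq le_rfl σ
  rw [InvExt.mres_self] at hc' hd
  have hcu : IsUnit c := by
    refine IsUnit.of_mul_eq_one_right d (g.smul_left_injective le_rfl ?_)
    rw [InvExt.mres_self, mul_smul, one_smul]
    exact (congrArg (fun m => d • m) hc'.symm).trans hd.symm
  have h : t' = (show Γ(C, ⊤) from f.app ⊤ c) • t := by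
    have h0 : σ' = c • σ := hc'
    change mres L (le_refl _) t' = (show Γ(C, ⊤) from f.app ⊤ c) • mres L (le_refl _) t at h0
    rwa [InvExt.mres_self, InvExt.mres_self] at h0
  exact ht.eq_of_smul ht' (hcu.map (f.app ⊤).hom) h

end GrothLib.RigRep26
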