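import Groth.Prelude.Def_AbDual
import Mathlib.AlgebraicGeometry.Gluing

/-!
# Representability by open pieces
-/

set_option autoImplicit false
set_option linter.all false
set_option backward.isDefEq.respectTransparency false
set_option maxHeartbeats 1000000
set_option synthInstance.maxHeartbeats 200000

universe v u

open CategoryTheory CategoryTheory.Limits AlgebraicGeometry TopologicalSpace

noncomputable section

namespace GrothLib.RigRep26

/-- A functor of points with a covering by open representable pieces. -/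
structure Data (S : Scheme.{u}) where
  F : Over S → Type v
  pl : ∀ {T T' : Over S}, (T' ⟶ T) → F T → F T'
  pl_id : ∀ (T : Over S) (c : F T), pl (𝟙 T) c = c
  pl_comp : ∀ {T T' T'' : Over S} (g : T'' ⟶ T') (h : T' ⟶ T) (c : F T), pl g (pl h c) = pl (g ≫ h) c
  ι : Type u
  U : ι → Over S
  u : ∀ i, F (U i)
  V : ∀ (i : ι) (T : Over S), F T → T.left.Opens
  uniq : ∀ (i : ι) (T : Over S) (g g' : T ⟶ U i), pl g (u i) = pl g' (u i) → g = g'
  lift_iff : ∀ (i : ι) (T : Over S) (c : F T) {T' : Over S} (h : T' ⟶ T),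
    (∃ g : T' ⟶ U i, pl g (u i) = pl h c) ↔ Set.range h.left ⊆ (V i T c : Set T.left)
  cover : ∀ (T : Over S) (c : F T) (t : T.left), ∃ i, t ∈ V i T c
  sep : ∀ (T : Over S) (c c' : F T),
    (∀ t : T.left, ∃ O : T.left.Opens, t ∈ O ∧
      pl (AbDual.ovrHom T O.ι) c = pl (AbDual.ovrHom T O.ι) c') → c = c'
  glue : ∀ (T : Over S) {κ : Type u} (O : κ → T.left.Opens), (∀ t, ∃ k, t ∈ O k) →
    ∀ c : ∀ k, F (AbDual.ovr T (O k).ι),
      (∀ k l {T' : Over S} (a : T' ⟶ AbDual.ovr T (O k).ι) (b : T' ⟶ AbDual.ovr T (O l).ι),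
        a ≫ AbDual.ovrHom T (O k).ι = b ≫ AbDual.ovrHom T (O l).ι → pl a (c k) = pl b (c l)) →
      ∃ x : F T, ∀ k, pl (AbDual.ovrHom T (O k).ι) x = c k

namespace Data

variable {S : Scheme.{u}} (D : Data.{v} S)

/-- The overlaps. -/
def ov (i j : D.ι) : (D.U i).left.Opens := D.V j (D.U i) (D.u i)

def ovT (i j : D.ι) : Over S := AbDual.ovr (D.U i) (D.ov i j).ι

def ovI (i j : D.ι) : D.ovT i j ⟶ D.U i := AbDual.ovrHom (D.U i) (D.ov i j).ι

theorem range_ovI (i j : D.ι) : Set.range (D.ovI i j).left ⊆ (D.ov i j : Set (D.U i).left) := by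
  show Set.range (D.ov i j).ι ⊆ _
  rw [Scheme.Opens.range_ι]

/-- The transition maps. -/
def tr (i j : D.ι) : D.ovT i j ⟶ D.U j :=
  ((D.lift_iff j (D.U i) (D.u i) (D.ovI i j)).2 (D.range_ovI i j)).choose

theorem pl_tr (i j : D.ι) : D.pl (D.tr i j) (D.u j) = D.pl (D.ovI i j) (D.u i) :=
  ((D.lift_iff j (D.U i) (D.u i) (D.ovI i j)).2 (D.range_ovI i j)).choose_spec

theorem range_of_pl_eq {i j : D.ι} {W : Over S} (a : W ⟶ D.U i) (b : W ⟶ D.U j)
    (h : D.pl b (D.u j) = D.pl a (D.u i)) : Set.range a.left ⊆ (D.ov i j : Set (D.U i).left) :=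
  (D.lift_iff j (D.U i) (D.u i) a).1 ⟨b, h⟩

theorem exists_fac {i j : D.ι} {W : Over S} (a : W ⟶ D.U i)
    (h : Set.range a.left ⊆ (D.ov i j : Set (D.U i).left)) : ∃ a' : W ⟶ D.ovT i j, a' ≫ D.ovI i j = a := by
  have h' : Set.range a.left ⊆ Set.range (D.ov i j).ι := by rwa [Scheme.Opens.range_ι]
  refine ⟨Over.homMk (IsOpenImmersion.lift (D.ov i j).ι a.left h') ?_,
    Over.OverMorphism.ext (IsOpenImmersion.lift_fac _ _ _)⟩
  show IsOpenImmersion.lift _ _ _ ≫ (D.ov i j).ι ≫ (D.U i).hom = W.hom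
  rw [IsOpenImmersion.lift_fac_assoc]
  exact Over.w a

theorem range_tr (i j : D.ι) : Set.range (D.tr i j).left ⊆ (D.ov j i : Set (D.U j).left) :=
  D.range_of_pl_eq (D.tr i j) (D.ovI i j) (D.pl_tr i j).symm

def tt (i j : D.ι) : D.ovT i j ⟶ D.ovT j i := (D.exists_fac (D.tr i j) (D.range_tr i j)).choose

theorem tt_ovI (i j : D.ι) : D.tt i j ≫ D.ovI j i = D.tr i j :=
  (D.exists_fac (D.tr i j) (D.range_tr i j)).choose_spec

theorem pl_tt (i j : D.ι) : D.pl (D.tt i j ≫ D.ovI j i) (D.u j) = D.pl (D.ovI i j) (D.u i) := by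
  rw [D.tt_ovI, D.pl_tr]

theorem tr_self (i : D.ι) : D.tr i i = D.ovI i i := D.uniq i _ _ _ (D.pl_tr i i)

instance (i j : D.ι) : Mono (D.ovI i j) := ⟨fun a b h => Over.OverMorphism.ext
  ((cancel_mono (D.ov i j).ι).1 (congrArg CommaMorphism.left h))⟩

theorem tt_self (i : D.ι) : D.tt i i = 𝟙 _ := by
  rw [← cancel_mono (D.ovI i i), D.tt_ovI, D.tr_self, Category.id_comp]

theorem ov_self (i : D.ι) : D.ov i i = ⊤ := by
  refine Opens.ext (Set.eq_univ_of_univ_subset ?_)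
  have h := (D.lift_iff i (D.U i) (D.u i) (𝟙 _)).1 ⟨𝟙 _, rfl⟩
  exact fun x _ => h ⟨x, rfl⟩

theorem isIso_ι_self (i : D.ι) : IsIso (D.ov i i).ι := by
  rw [D.ov_self]; exact (Scheme.topIso _).isIso_hom

/-- The triple overlap. -/
def tri (i j k : D.ι) : Over S :=
  Over.mk (pullback.fst (D.ov i j).ι (D.ov i k).ι ≫ (D.ovT i j).hom)

def tri₁ (i j k : D.ι) : D.tri i j k ⟶ D.ovT i j := Over.homMk (pullback.fst _ _) rfl

def tri₂ (i j k : D.ι) : D.tri i j k ⟶ D.ovT i k :=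
  Over.homMk (pullback.snd _ _) (by
    show pullback.snd _ _ ≫ (D.ov i k).ι ≫ (D.U i).hom = pullback.fst _ _ ≫ (D.ov i j).ι ≫ (D.U i).hom
    rw [← reassoc_of% pullback.condition (f := (D.ov i j).ι) (g := (D.ov i k).ι)])

theorem tri_w (i j k : D.ι) : D.tri₁ i j k ≫ D.ovI i j = D.tri₂ i j k ≫ D.ovI i k :=
  Over.OverMorphism.ext pullback.condition

/-- The point of `U j` over the triple overlap. -/
def mid (i j k : D.ι) : D.tri i j k ⟶ D.U j := D.tri₁ i j k ≫ D.tr i j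

theorem pl_mid (i j k : D.ι) : D.pl (D.mid i j k) (D.u j) = D.pl (D.tri₁ i j k ≫ D.ovI i j) (D.u i) := by
  rw [mid, ← D.pl_comp, D.pl_tr, D.pl_comp]

theorem range_mid (i j k : D.ι) : Set.range (D.mid i j k).left ⊆ (D.ov j k : Set (D.U j).left) :=
  D.range_of_pl_eq (D.mid i j k) (D.tri₂ i j k ≫ D.tr i k) (by
    rw [D.pl_mid, D.tri_w, ← D.pl_comp, D.pl_tr, D.pl_comp])

def midLift (i j k : D.ι) : D.tri i j k ⟶ D.ovT j k := (D.exists_fac (D.mid i j k) (D.range_mid i j k)).choose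

theorem midLift_ovI (i j k : D.ι) : D.midLift i j k ≫ D.ovI j k = D.mid i j k :=
  (D.exists_fac (D.mid i j k) (D.range_mid i j k)).choose_spec

def tp (i j k : D.ι) : D.tri i j k ⟶ D.tri j k i :=
  Over.homMk (pullback.lift (D.midLift i j k).left (D.tri₁ i j k ≫ D.tt i j).left (congrArg CommaMorphism.left
      (show D.midLift i j k ≫ D.ovI j k = (D.tri₁ i j k ≫ D.tt i j) ≫ D.ovI j i by
        rw [D.midLift_ovI, Category.assoc, D.tt_ovI, mid]))) (by
    show pullback.lift _ _ _ ≫ pullback.fst _ _ ≫ (D.ovT j k).hom = _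
    rw [pullback.lift_fst_assoc]
    exact Over.w _)

theorem tp_tri₁ (i j k : D.ι) : D.tp i j k ≫ D.tri₁ j k i = D.midLift i j k :=
  Over.OverMorphism.ext (pullback.lift_fst _ _ _)

theorem tp_tri₂ (i j k : D.ι) : D.tp i j k ≫ D.tri₂ j k i = D.tri₁ i j k ≫ D.tt i j :=
  Over.OverMorphism.ext (pullback.lift_snd _ _ _)

theorem pl_tp (i j k : D.ι) :
    D.pl (D.tp i j k ≫ D.tri₁ j k i ≫ D.ovI j k) (D.u j) = D.pl (D.tri₁ i j k ≫ D.ovI i j) (D.u i) := by
  rw [← Category.assoc, D.tp_tri₁, D.midLift_ovI, D.pl_mid]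

theorem tp_cocycle (i j k : D.ι) : D.tp i j k ≫ D.tp j k i ≫ D.tp k i j = 𝟙 _ := by
  have key : (D.tp i j k ≫ D.tp j k i ≫ D.tp k i j) ≫ D.tri₁ i j k ≫ D.ovI i j =
      D.tri₁ i j k ≫ D.ovI i j := by
    refine D.uniq i _ _ _ ?_
    rw [Category.assoc, Category.assoc, ← D.pl_comp (D.tp i j k), ← D.pl_comp (D.tp j k i), D.pl_tp,
      D.pl_comp (D.tp j k i), D.pl_tp, D.pl_comp (D.tp i j k), D.pl_tp]
  refine Over.OverMorphism.ext ?_
  show (D.tp i j k ≫ D.tp j k i ≫ D.tp k i j).left = 𝟙 _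
  have e1 := (congrArg CommaMorphism.left key)
  have e2 : (D.tp i j k ≫ D.tp j k i ≫ D.tp k i j).left ≫ pullback.snd _ _ ≫ (D.ov i k).ι =
      pullback.snd _ _ ≫ (D.ov i k).ι := by
    rw [← pullback.condition]
    exact e1
  refine pullback.hom_ext ?_ ?_
  · rw [← cancel_mono (D.ov i j).ι, Category.assoc, Category.assoc]
    exact e1.trans (Category.id_comp _).symm
  · rw [← cancel_mono (D.ov i k).ι, Category.assoc, Category.assoc]
    exact e2.trans (Category.id_comp _).symm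

/-- The gluing data. -/
def glueData : Scheme.GlueData where
  J := D.ι
  U i := (D.U i).left
  V p := (D.ov p.1 p.2 : Scheme.{u})
  f i j := (D.ov i j).ι
  f_mono i j := inferInstance
  f_hasPullback i j k := inferInstance
  f_id i := D.isIso_ι_self i
  t i j := (D.tt i j).left
  t_id i := congrArg CommaMorphism.left (D.tt_self i)
  t' i j k := (D.tp i j k).left
  t_fac i j k := congrArg CommaMorphism.left (D.tp_tri₂ i j k)
  cocycle i j k := congrArg CommaMorphism.left (D.tp_cocycle i j k)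
  f_open i j := inferInstance

/-- The glued scheme over the base. -/
def P : Over S :=
  Over.mk (Multicoequalizer.desc D.glueData.toGlueData.diagram S (fun i => (D.U i).hom) fun p => by
    show (D.ov p.1 p.2).ι ≫ (D.U p.1).hom = ((D.tt p.1 p.2).left ≫ (D.ov p.2 p.1).ι) ≫ (D.U p.2).hom
    rw [Category.assoc]
    exact (Over.w (D.tt p.1 p.2)).symm)

def inj (i : D.ι) : D.U i ⟶ D.P := Over.homMk (D.glueData.ι i) (Multicoequalizer.π_desc _ _ _ _ _)

instance (i : D.ι) : IsOpenImmersion (D.inj i).left := inferInstanceAs (IsOpenImmersion (D.glueData.ι i))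

/-- Points with the same class agree in the glued scheme. -/
theorem inj_eq {W : Over S} {i j : D.ι} (a : W ⟶ D.U i) (b : W ⟶ D.U j)
    (h : D.pl b (D.u j) = D.pl a (D.u i)) : a ≫ D.inj i = b ≫ D.inj j := by
  obtain ⟨a', ha'⟩ := D.exists_fac a (D.range_of_pl_eq a b h)
  have hb : a' ≫ D.tt i j ≫ D.ovI j i = b := D.uniq j _ _ _ (by
    rw [← D.pl_comp, D.pl_tt, D.pl_comp, ha', h])
  rw [← ha', ← hb, Category.assoc, Category.assoc, Category.assoc]
  congr 1
  exact Over.OverMorphism.ext (D.glueData.glue_condition i j).symm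

theorem exists_jointly (p : D.P.left) : ∃ (i : D.ι) (x : (D.U i).left), (D.inj i).left x = p :=
  D.glueData.ι_jointly_surjective p

/-- The universal class. -/
theorem exists_univ : ∃ ξ : D.F D.P, ∀ i, D.pl (D.inj i) ξ = D.u i := by
  let O : D.ι → D.P.left.Opens := fun i => (D.inj i).left.opensRange
  let e : ∀ i, AbDual.ovr D.P (O i).ι ⟶ D.U i := fun i =>
    Over.homMk (IsOpenImmersion.lift (D.inj i).left (O i).ι (Scheme.Opens.range_ι (O i)).subset) (by
      show IsOpenImmersion.lift _ _ _ ≫ (D.U i).hom = (O i).ι ≫ D.P.hom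
      rw [← Over.w (D.inj i), IsOpenImmersion.lift_fac_assoc])
  have he : ∀ i, e i ≫ D.inj i = AbDual.ovrHom D.P (O i).ι := fun i =>
    Over.OverMorphism.ext (IsOpenImmersion.lift_fac _ _ _)
  have hO : ∀ p : D.P.left, ∃ i, p ∈ O i := fun p => by
    obtain ⟨i, x, hx⟩ := D.exists_jointly p
    exact ⟨i, x, hx⟩
  obtain ⟨ξ, hξ⟩ := D.glue D.P O hO (fun i => D.pl (e i) (D.u i)) fun k l T' a b hab => by
    rw [D.pl_comp, D.pl_comp]
    rw [← he k, ← he l, ← Category.assoc, ← Category.assoc] at hab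
    generalize a ≫ e k = A at hab ⊢
    generalize b ≫ e l = B at hab ⊢
    -- the two points meet in the overlap
    have hr : Set.range A.left ⊆ (D.ov k l : Set (D.U k).left) := by
      rintro _ ⟨w, rfl⟩
      have h1 : D.glueData.ι k (A.left w) = D.glueData.ι l (B.left w) :=
        congrArg (fun q : T' ⟶ D.P => q.left w) hab
      obtain ⟨z, hz, -⟩ := (D.glueData.ι_eq_iff k l (A.left w) (B.left w)).1 h1
      have hz' : (D.ov k l).ι z = A.left w := hz
      rw [← hz']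
      exact z.2
    obtain ⟨A', hA'⟩ := D.exists_fac A hr
    have hB : A' ≫ D.tt k l ≫ D.ovI l k = B := by
      refine Over.OverMorphism.ext ((cancel_mono (D.glueData.ι l)).1 ?_)
      refine Eq.trans ?_ (congrArg CommaMorphism.left hab)
      rw [← hA']
      simp only [Over.comp_left, Category.assoc]
      congr 1
      exact D.glueData.glue_condition k l
    rw [← hB, ← D.pl_comp A' _ (D.u l), D.pl_tt, D.pl_comp, hA']
  refine ⟨ξ, fun i => ?_⟩
  let f : D.U i ⟶ AbDual.ovr D.P (O i).ι :=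
    Over.homMk (IsOpenImmersion.lift (O i).ι (D.inj i).left (Scheme.Opens.range_ι (O i)).symm.subset) (by
      show IsOpenImmersion.lift _ _ _ ≫ (O i).ι ≫ D.P.hom = _
      rw [IsOpenImmersion.lift_fac_assoc, Over.w (D.inj i)])
  have hf : f ≫ AbDual.ovrHom D.P (O i).ι = D.inj i := Over.OverMorphism.ext (IsOpenImmersion.lift_fac _ _ _)
  have hfe : f ≫ e i = 𝟙 _ := by
    refine Over.OverMorphism.ext ((cancel_mono (D.inj i).left).1 ?_)
    exact (congrArg CommaMorphism.left (show (f ≫ e i) ≫ D.inj i = 𝟙 _ ≫ D.inj i by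
      rw [Category.assoc, he, hf, Category.id_comp]))
  rw [← hf, ← D.pl_comp, hξ, D.pl_comp, hfe, D.pl_id]

theorem lift_inj {T : Over S} (g : T ⟶ D.P) (t : T.left) : ∃ (O : T.left.Opens) (i : D.ι)
    (a : AbDual.ovr T O.ι ⟶ D.U i), t ∈ O ∧ a ≫ D.inj i = AbDual.ovrHom T O.ι ≫ g := by
  obtain ⟨i, x, hx⟩ := D.exists_jointly (g.left t)
  let O := g.left ⁻¹ᵁ (D.inj i).left.opensRange
  have hr : Set.range (O.ι ≫ g.left) ⊆ Set.range (D.inj i).left := by
    rintro _ ⟨w, rfl⟩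
    exact w.2
  refine ⟨O, i, Over.homMk (IsOpenImmersion.lift (D.inj i).left (O.ι ≫ g.left) hr) ?_, ⟨x, hx⟩,
    Over.OverMorphism.ext (IsOpenImmersion.lift_fac _ _ _)⟩
  show IsOpenImmersion.lift _ _ _ ≫ (D.U i).hom = O.ι ≫ T.hom
  rw [← Over.w (D.inj i), IsOpenImmersion.lift_fac_assoc, Category.assoc, Over.w g]

/-- **Representability.** -/
theorem representable : ∃ (P : Over S) (ξ : D.F P), ∀ (T : Over S) (c : D.F T), ∃! g : T ⟶ P, D.pl g ξ = c := by
  obtain ⟨ξ, hξ⟩ := D.exists_univ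
  have huniq : ∀ (T : Over S) (g g' : T ⟶ D.P), D.pl g ξ = D.pl g' ξ → g = g' := by
    intro T g g' h
    have hloc : ∀ t : T.left, ∃ O : T.left.Opens, t ∈ O ∧ O.ι ≫ g.left = O.ι ≫ g'.left := by
      intro t
      obtain ⟨O₁, i, a, h1, ha⟩ := D.lift_inj g t
      obtain ⟨O₂, j, b, h2, hb⟩ := D.lift_inj g' t
      let r₁ : AbDual.ovr T (O₁ ⊓ O₂).ι ⟶ AbDual.ovr T O₁.ι :=
        Over.homMk (T.left.homOfLE (inf_le_left : O₁ ⊓ O₂ ≤ O₁)) (Scheme.homOfLE_ι_assoc _ (inf_le_left : O₁ ⊓ O₂ ≤ O₁) _)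
      let r₂ : AbDual.ovr T (O₁ ⊓ O₂).ι ⟶ AbDual.ovr T O₂.ι :=
        Over.homMk (T.left.homOfLE (inf_le_right : O₁ ⊓ O₂ ≤ O₂)) (Scheme.homOfLE_ι_assoc _ (inf_le_right : O₁ ⊓ O₂ ≤ O₂) _)
      have hr₁ : r₁ ≫ AbDual.ovrHom T O₁.ι = AbDual.ovrHom T (O₁ ⊓ O₂).ι :=
        Over.OverMorphism.ext (Scheme.homOfLE_ι _ (inf_le_left : O₁ ⊓ O₂ ≤ O₁))
      have hr₂ : r₂ ≫ AbDual.ovrHom T O₂.ι = AbDual.ovrHom T (O₁ ⊓ O₂).ι :=
        Over.OverMorphism.ext (Scheme.homOfLE_ι _ (inf_le_right : O₁ ⊓ O₂ ≤ O₂))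
      have e := D.inj_eq (r₁ ≫ a) (r₂ ≫ b) (by
        rw [← hξ i, ← hξ j, D.pl_comp, D.pl_comp, Category.assoc, Category.assoc, ha, hb,
          ← Category.assoc, ← Category.assoc, hr₁, hr₂, ← D.pl_comp, ← D.pl_comp, h])
      rw [Category.assoc, Category.assoc, ha, hb, ← Category.assoc, ← Category.assoc, hr₁, hr₂] at e
      exact ⟨O₁ ⊓ O₂, ⟨h1, h2⟩, congrArg CommaMorphism.left e⟩
    choose O hO hOe using hloc
    let 𝒰 := T.left.openCoverOfIsOpenCover O (eq_top_iff.2 fun x _ => Opens.mem_iSup.2 ⟨x, hO x⟩)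
    exact Over.OverMorphism.ext (𝒰.hom_ext _ _ fun x => hOe x)
  refine ⟨D.P, ξ, fun T c => ?_⟩
  choose i hi using D.cover T c
  let O : T.left → T.left.Opens := fun t => D.V (i t) T c
  have hg : ∀ t, ∃ g : AbDual.ovr T (O t).ι ⟶ D.P, D.pl g ξ = D.pl (AbDual.ovrHom T (O t).ι) c := fun t => by
    obtain ⟨a, ha⟩ := (D.lift_iff (i t) T c (AbDual.ovrHom T (O t).ι)).2 (by
      show Set.range (O t).ι ⊆ _
      rw [Scheme.Opens.range_ι])
    exact ⟨a ≫ D.inj (i t), by rw [← D.pl_comp, hξ, ha]⟩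
  choose g hg using hg
  let 𝒰 := T.left.openCoverOfIsOpenCover O (eq_top_iff.2 fun x _ => Opens.mem_iSup.2 ⟨x, hi x⟩)
  have hcompat : ∀ x y, pullback.fst (𝒰.f x) (𝒰.f y) ≫ (g x).left = pullback.snd (𝒰.f x) (𝒰.f y) ≫ (g y).left := by
    intro x y
    let W : Over S := Over.mk (pullback.fst (O x).ι (O y).ι ≫ (O x).ι ≫ T.hom)
    let a : W ⟶ AbDual.ovr T (O x).ι := Over.homMk (pullback.fst _ _) rfl
    let b : W ⟶ AbDual.ovr T (O y).ι := Over.homMk (pullback.snd _ _) (by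
      show pullback.snd _ _ ≫ (O y).ι ≫ T.hom = pullback.fst _ _ ≫ (O x).ι ≫ T.hom
      rw [← reassoc_of% pullback.condition (f := (O x).ι) (g := (O y).ι)])
    have hab : a ≫ AbDual.ovrHom T (O x).ι = b ≫ AbDual.ovrHom T (O y).ι := Over.OverMorphism.ext pullback.condition
    exact congrArg CommaMorphism.left (huniq W (a ≫ g x) (b ≫ g y) (by
      rw [← D.pl_comp, ← D.pl_comp, hg, hg, D.pl_comp, D.pl_comp, hab]))
  let m : T.left ⟶ D.P.left := 𝒰.glueMorphisms (fun x => (g x).left) hcompat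
  have hm : ∀ x, (O x).ι ≫ m = (g x).left := fun x => 𝒰.ι_glueMorphisms _ hcompat x
  let G : T ⟶ D.P := Over.homMk m (𝒰.hom_ext _ _ fun x => by
    show (O x).ι ≫ m ≫ D.P.hom = (O x).ι ≫ T.hom
    rw [← Category.assoc, hm]
    exact Over.w (g x))
  have hG : D.pl G ξ = c := D.sep T _ _ fun t => ⟨O t, hi t, by
    rw [D.pl_comp, show AbDual.ovrHom T (O t).ι ≫ G = g t from Over.OverMorphism.ext (hm t), hg]⟩
  exact ⟨G, hG, fun g' hg' => huniq T _ _ (hg'.trans hG.symm)⟩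

end Data

end GrothLib.RigRep26
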