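import Groth.Agent.Lib.RigRep26.Rep

/-!
# The rigidified Picard functor of a curve over a separably closed field is representable
-/

set_option autoImplicit false
set_option linter.all false
set_option backward.isDefEq.respectTransparency false
set_option maxHeartbeats 2000000
set_option synthInstance.maxHeartbeats 200000

universe u

open CategoryTheory CategoryTheory.Limits AlgebraicGeometry TopologicalSpace Opposite
open GrothLib.Cube GrothLib.RigDesc26

noncomputable section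

namespace GrothLib.RigRep26

variable {k : Type u} [Field k] [IsSepClosed k] {X : Scheme.{u}} (f : X ⟶ Spec (CommRingCat.of k))
  [IsProper f] [Smooth f] [GeometricallyConnected f] [GeometricallyIrreducible f]
  [IsIntegral X] [CurveRR.RegCurve X]
  (σ : Spec (CommRingCat.of k) ⟶ X) (hσ : σ ≫ f = 𝟙 _) (hX : Curve.IsSmoothProperCurve k X f)

theorem pl_u (p : Idx f × ℕ) {T : Over (Spec (CommRingCat.of k))} (g : T ⟶ U₀ f hX p.2) :
    (rig f σ hσ (U₀ f hX p.2) (pull (PicF.XTmap f (j₀ f hX p.2)) (univ f hX p.2) * (tw f _ p.1)⁻¹)).pl g =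
      rig f σ hσ T (pull (PicF.XTmap f (g ≫ j₀ f hX p.2)) (univ f hX p.2) * (tw f T p.1)⁻¹) := by
  rw [rig_pl, map_mul, map_inv, pull_comp, RigDesc26.XTmap_comp, tw_pull]

/-- The open pieces. -/
def pieces : Data (Spec (CommRingCat.of k)) where
  F := R f σ hσ
  pl g c := c.pl g
  pl_id _ c := c.pl_id
  pl_comp g h c := c.pl_comp g h
  ι := Idx f × ℕ
  U p := U₀ f hX p.2
  u p := rig f σ hσ (U₀ f hX p.2) (pull (PicF.XTmap f (j₀ f hX p.2)) (univ f hX p.2) * (tw f _ p.1)⁻¹)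
  V p T c := degLocus f hX.2.2.2 T (c.1 * tw f T p.1) p.2
  uniq p T g g' e := by
    rw [pl_u, pl_u] at e
    have h := congrArg Subtype.val e
    change _ * _ * _ = _ * _ * _ at h
    rw [mul_right_comm _ (tw f T p.1)⁻¹, mul_right_comm _ (tw f T p.1)⁻¹] at h
    have h' := mul_right_cancel h
    rw [← eq_mul_inv_iff_mul_eq, mul_assoc, ← map_inv (pull (PicF.XTproj f T)), ← map_mul] at h'
    exact uniq_aux f hX.2.2.2 hX p.2 g g' h'
  lift_iff p T c {T'} h := by
    rw [← lift_iff_aux f hX.2.2.2 hX p.2 (c.1 * tw f T p.1) h]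
    refine exists_congr fun g => ?_
    rw [pl_u]
    constructor
    · intro e
      have h1 := congrArg Subtype.val e
      refine ⟨(pull (PicF.secT f σ hσ T')
        (pull (PicF.XTmap f (g ≫ j₀ f hX p.2)) (univ f hX p.2) * (tw f T' p.1)⁻¹))⁻¹, ?_⟩
      rw [map_mul, tw_pull]
      change _ * _ * _ = pull (PicF.XTmap f h) c.1 at h1
      rw [← h1, mul_right_comm (pull _ _) (tw f T' p.1)⁻¹, inv_mul_cancel_right]
    · rintro ⟨n, hn⟩
      refine (rig_eq f σ hσ (x := c.pl h) (n := n) ?_).symm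
      rw [map_mul, tw_pull] at hn
      show pull (PicF.XTmap f h) c.1 = _
      rw [eq_mul_inv_of_mul_eq hn, mul_right_comm]
  cover T c t := by
    obtain ⟨D, hD⟩ := exists_cover f hX.2.2.2 T c.1 t
    let w : (goodLocus f T (c.1 * tw f T D)).toScheme := ⟨t, hD⟩
    exact ⟨(D, ((divW f hX.2.2.2 T (c.1 * tw f T D)).subschemeι ≫
      PicF.XTproj f (W₀ f T (c.1 * tw f T D))).finrank w), w, rfl, rfl⟩
  sep T c c' h := R.sep f σ hσ (PicZeroPts26.isIso_app_XT f) T c c' h
  glue T _ O hO c hc := R.glue f σ hσ (PicZeroPts26.isIso_app_XT f) T O hO c hc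

include hX in
theorem rigRepresentable : PicF.RigRepresentable f σ hσ := by
  obtain ⟨P, ξ, hξ⟩ := (pieces f σ hσ hX).representable
  have hrig : ∀ {T : Over (Spec (CommRingCat.of k))} {M : (PicF.XT f T).Modules} (hM : PicF.IsInvertible M),
      PicF.IsTrivialCl (PicF.pullCl (PicF.secT f σ hσ T) (PicF.cl M)) ↔ pull (PicF.secT f σ hσ T) (clsMod hM) = 1 := by
    intro T M hM
    rw [← clsMod_pullback _ hM, clsMod_eq_one_iff]
    exact PicSep26.cl_eq_iff
  change R f σ hσ P at ξ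
  obtain ⟨L, hL, hLc⟩ := exists_module ξ.1
  refine ⟨P, ⟨PicF.cl L, ⟨L, rfl, hL⟩, (hrig hL).2 (by rw [hLc]; exact ξ.2)⟩, fun T c => ?_⟩
  obtain ⟨c, ⟨M, rfl, hM⟩, hc⟩ := c
  obtain ⟨g, hg, hu⟩ := hξ T ⟨clsMod hM, (hrig hM).1 hc⟩
  have key : ∀ g : T ⟶ P, PicF.pullCl (PicF.XTmap f g) (PicF.cl L) = PicF.cl M ↔
      pull (PicF.XTmap f g) ξ.1 = clsMod hM := fun g => by
    rw [← hLc, ← clsMod_pullback _ hL, clsMod_eq_iff]
    exact PicSep26.cl_eq_iff
  exact ⟨g, (key g).2 (congrArg Subtype.val hg), fun g' hg' => hu g' (Subtype.ext ((key g').1 hg'))⟩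

end GrothLib.RigRep26
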