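import Groth.Agent.Lib.RigDesc26.Points

/-!
# Rigidified classes form a Zariski sheaf
-/

set_option autoImplicit false
set_option linter.all false
set_option backward.isDefEq.respectTransparency false
set_option maxHeartbeats 1000000
set_option synthInstance.maxHeartbeats 200000

universe u

open CategoryTheory CategoryTheory.Limits AlgebraicGeometry Opposite TopologicalSpace
open GrothLib.Cube GrothLib.RigDesc26

noncomputable section

namespace GrothLib.RigRep26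

variable {X S : Scheme.{u}} (f : X ⟶ S) (σ : S ⟶ X) (hσ : σ ≫ f = 𝟙 S)

/-- Rigidified classes. -/
def R (T : Over S) : Type _ := {n : Pic (PicF.XT f T) // pull (PicF.secT f σ hσ T) n = 1}

variable {f σ hσ}

def R.pl {T T' : Over S} (g : T' ⟶ T) (c : R f σ hσ T) : R f σ hσ T' :=
  ⟨pull (PicF.XTmap f g) c.1, secT_pull f σ hσ g c.1 c.2⟩

theorem R.pl_id {T : Over S} (c : R f σ hσ T) : c.pl (𝟙 T) = c := by
  refine Subtype.ext ?_
  show pull (PicF.XTmap f (𝟙 T)) c.1 = c.1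
  rw [show PicF.XTmap f (𝟙 T) = 𝟙 _ from pullback.hom_ext (by simp [PicF.XTmap]) (by simp [PicF.XTmap]), pull_id]

theorem R.pl_comp {T T' T'' : Over S} (g : T'' ⟶ T') (h : T' ⟶ T) (c : R f σ hσ T) :
    (c.pl h).pl g = c.pl (g ≫ h) :=
  Subtype.ext ((pull_comp _ _ _).trans (by rw [RigDesc26.XTmap_comp]; rfl))

variable (f σ hσ) (ha : ∀ (T : Over S) (U : T.left.Opens), IsIso ((PicF.XTproj f T).app U))

theorem surjective_desc {T : Scheme.{u}} {κ : Type u} (O : κ → T.Opens) (hO : ∀ t, ∃ k, t ∈ O k) :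
    Surjective (Sigma.desc fun k => (O k).ι) := ⟨fun t => by
  obtain ⟨k, hk⟩ := hO t
  exact ⟨Sigma.ι (fun k => (O k : Scheme.{u})) k ⟨t, hk⟩, by rw [← Scheme.Hom.comp_apply, Sigma.ι_desc]; rfl⟩⟩

include ha in
/-- Rigidified classes agreeing locally are equal. -/
theorem R.sep (T : Over S) (c c' : R f σ hσ T)
    (h : ∀ t : T.left, ∃ O : T.left.Opens, t ∈ O ∧
      c.pl (AbDual.ovrHom T O.ι) = c'.pl (AbDual.ovrHom T O.ι)) : c = c' := by
  choose O hO hc using h
  let g := fun t : T.left => (O t).ι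
  haveI := surjective_desc O fun t => ⟨t, hO t⟩
  haveI : Flat (Sigma.desc g) := IsZariskiLocalAtSource.sigmaDesc fun t => inferInstance
  haveI : LocallyOfFinitePresentation (Sigma.desc g) := IsZariskiLocalAtSource.sigmaDesc fun t => inferInstance
  refine Subtype.ext (eq_of_mul_inv_eq_one (eq_one_of_XTmap f σ hσ ha T (Sigma.desc g) ?_ ?_))
  · refine eq_one_of_disjoint (fun t => PicF.XTmap f (inc T _ g t)) (cover_inc f T _ g) (disjoint_inc f T _ g)
      fun t => ?_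
    have e : pull (PicF.XTmap f (AbDual.ovrHom T (g t))) c.1 = pull (PicF.XTmap f (AbDual.ovrHom T (g t))) c'.1 :=
      congrArg Subtype.val (hc t)
    rw [pull_comp, XTmap_comp, inc_ovrHom, map_mul, map_inv, e, mul_inv_cancel]
  · rw [map_mul, map_inv, c.2, c'.2, inv_one, one_mul]

include ha in
/-- Compatible rigidified classes glue. -/
theorem R.glue (T : Over S) {κ : Type u} (O : κ → T.left.Opens) (hO : ∀ t, ∃ k, t ∈ O k)
    (c : ∀ k, R f σ hσ (AbDual.ovr T (O k).ι))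
    (hc : ∀ k l {T' : Over S} (a : T' ⟶ AbDual.ovr T (O k).ι) (b : T' ⟶ AbDual.ovr T (O l).ι),
      a ≫ AbDual.ovrHom T (O k).ι = b ≫ AbDual.ovrHom T (O l).ι → (c k).pl a = (c l).pl b) :
    ∃ x : R f σ hσ T, ∀ k, x.pl (AbDual.ovrHom T (O k).ι) = c k := by
  let Y := fun k => (O k : Scheme.{u})
  let g : ∀ k, Y k ⟶ T.left := fun k => (O k).ι
  haveI := surjective_desc O hO
  haveI : Flat (Sigma.desc g) := IsZariskiLocalAtSource.sigmaDesc fun t => inferInstance
  haveI : LocallyOfFinitePresentation (Sigma.desc g) := IsZariskiLocalAtSource.sigmaDesc fun t => inferInstance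
  obtain ⟨x₀, hx₀⟩ := exists_of_disjoint (fun k => PicF.XTmap f (inc T Y g k)) (cover_inc f T Y g)
    (disjoint_inc f T Y g) (fun k => (c k).1)
  have hsec : pull (PicF.secT f σ hσ (AbDual.ovr T (Sigma.desc g))) x₀ = 1 := by
    refine eq_one_of_disjoint (fun k => Sigma.ι Y k) (fun y => ?_) (fun k l h z z' e => ?_) fun k => ?_
    · obtain ⟨k, z, hz⟩ := (sigmaOpenCover Y).exists_eq y
      exact ⟨k, z, hz⟩
    · exact (disjoint_opensRange_sigmaι Y k l h).le_bot ⟨⟨z, rfl⟩, ⟨z', e.symm⟩⟩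
    · have e := secT_XTmap f σ hσ (inc T Y g k)
      show pull (inc T Y g k).left (pull (PicF.secT f σ hσ (AbDual.ovr T (Sigma.desc g))) x₀) = 1
      erw [pull_comp, ← e, ← pull_comp, hx₀]
      exact (c k).2
  let x : R f σ hσ (AbDual.ovr T (Sigma.desc g)) := ⟨x₀, hsec⟩
  have hxk : ∀ k, x.pl (inc T Y g k) = c k := fun k => Subtype.ext (hx₀ k)
  let a := AbDual.ovrHom (AbDual.ovr T (Sigma.desc g)) (pullback.fst (Sigma.desc g) (Sigma.desc g))
  let b : AbDual.ovr (AbDual.ovr T (Sigma.desc g)) (pullback.fst (Sigma.desc g) (Sigma.desc g)) ⟶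
      AbDual.ovr T (Sigma.desc g) :=
    Over.homMk (pullback.snd _ _) (pullback.condition_assoc T.hom).symm
  have hab : x.pl a = x.pl b := by
    refine R.sep f σ hσ ha _ _ _ fun w => ?_
    obtain ⟨k, yk, hk⟩ := (sigmaOpenCover Y).exists_eq (a.left w)
    obtain ⟨l, yl, hl⟩ := (sigmaOpenCover Y).exists_eq (b.left w)
    let A := a.left ⁻¹ᵁ (Sigma.ι Y k).opensRange ⊓ b.left ⁻¹ᵁ (Sigma.ι Y l).opensRange
    refine ⟨A, ⟨⟨yk, hk⟩, ⟨yl, hl⟩⟩, ?_⟩
    rw [R.pl_comp, R.pl_comp]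
    have h1 : ∃ a' : AbDual.ovr _ A.ι ⟶ AbDual.ovr T (g k), a' ≫ inc T Y g k = AbDual.ovrHom _ A.ι ≫ a := by
      have hr : Set.range (A.ι ≫ a.left) ⊆ Set.range (Sigma.ι Y k) := by
        rintro _ ⟨z, rfl⟩
        exact z.2.1
      refine ⟨Over.homMk (IsOpenImmersion.lift (Sigma.ι Y k) (A.ι ≫ a.left) hr) ?_,
        Over.OverMorphism.ext (IsOpenImmersion.lift_fac _ _ _)⟩
      show IsOpenImmersion.lift _ _ _ ≫ g k ≫ T.hom = A.ι ≫ pullback.fst _ _ ≫ Sigma.desc g ≫ T.hom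
      rw [← Sigma.ι_desc g k, Category.assoc, IsOpenImmersion.lift_fac_assoc, Category.assoc]
      rfl
    have h2 : ∃ b' : AbDual.ovr _ A.ι ⟶ AbDual.ovr T (g l), b' ≫ inc T Y g l = AbDual.ovrHom _ A.ι ≫ b := by
      have hr : Set.range (A.ι ≫ b.left) ⊆ Set.range (Sigma.ι Y l) := by
        rintro _ ⟨z, rfl⟩
        exact z.2.2
      refine ⟨Over.homMk (IsOpenImmersion.lift (Sigma.ι Y l) (A.ι ≫ b.left) hr) ?_,
        Over.OverMorphism.ext (IsOpenImmersion.lift_fac _ _ _)⟩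
      show IsOpenImmersion.lift _ _ _ ≫ g l ≫ T.hom = A.ι ≫ pullback.fst _ _ ≫ Sigma.desc g ≫ T.hom
      rw [← Sigma.ι_desc g l, Category.assoc, IsOpenImmersion.lift_fac_assoc, Category.assoc]
      exact congrArg (A.ι ≫ ·) (pullback.condition_assoc T.hom).symm
    obtain ⟨a', ha'⟩ := h1
    obtain ⟨b', hb'⟩ := h2
    rw [← ha', ← hb', ← R.pl_comp, ← R.pl_comp, hxk, hxk]
    refine hc k l a' b' ?_
    rw [← inc_ovrHom T Y g k, ← inc_ovrHom T Y g l, ← Category.assoc, ← Category.assoc, ha', hb', Category.assoc,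
      Category.assoc]
    congr 1
    exact Over.OverMorphism.ext pullback.condition
  obtain ⟨n, hn₁, hn₂⟩ := exists_of_XTmap f σ hσ ha T (Sigma.desc g) x₀ hsec (congrArg Subtype.val hab)
  refine ⟨⟨n, hn₁⟩, fun k => ?_⟩
  rw [← hxk k, show AbDual.ovrHom T (O k).ι = inc T Y g k ≫ AbDual.ovrHom T (Sigma.desc g) from
    (inc_ovrHom T Y g k).symm, ← R.pl_comp]
  exact congrArg (R.pl (inc T Y g k)) (Subtype.ext hn₂)

end GrothLib.RigRep26
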