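import Groth.Agent.Lib.RigRep26.Div
import Groth.Agent.Lib.RigRep26.Sheaf
import Groth.Agent.Lib.RigRep26.Glue
import Groth.Agent.Lib.PicZeroPts26.Curve
import Groth.Agent.Lib.BaseChange.Irred
import Groth.Agent.Lib.RelDiv.Sum
import Groth.Agent.Lib.CurveRR.Main
import Groth.Agent.S1170
import Groth.Agent.S6487

/-!
# The open pieces of the rigidified Picard functor of a curve
-/

set_option autoImplicit false
set_option linter.all false
set_option backward.isDefEq.respectTransparency false
set_option maxHeartbeats 2000000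
set_option synthInstance.maxHeartbeats 200000

universe u

open CategoryTheory CategoryTheory.Limits AlgebraicGeometry TopologicalSpace Opposite
open GrothLib.Cube GrothLib.RigDesc26

noncomputable section

namespace GrothLib.RigRep26

/-- A connected smooth proper curve over a separably closed field is geometrically irreducible and connected. -/
theorem geometrically_of_isSepClosed (k : Type u) [Field k] [IsSepClosed k] {X : Scheme.{u}}
    (f : X ⟶ Spec (CommRingCat.of k)) [IrreducibleSpace X] :
    GeometricallyIrreducible f ∧ GeometricallyConnected f := by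
  letI : X.Over (Spec (CommRingCat.of k)) := ⟨f⟩
  haveI : IsIso (Spec.map (CommRingCat.ofHom (algebraMap k k))) := by
    rw [show CommRingCat.ofHom (algebraMap k k) = 𝟙 (CommRingCat.of k) from rfl, Spec.map_id]
    infer_instance
  let e := asIso (pullback.fst (X ↘ Spec (CommRingCat.of k)) (Spec.map (CommRingCat.ofHom (algebraMap k k))))
  haveI : IrreducibleSpace ↥(Curv2.bc k X k) :=
    e.inv.homeomorph.surjective.irreducibleSpace e.inv.continuous
  have h := BaseChange.geometricallyIrreducible_of_irreducible_bc k X k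
  refine ⟨h, ⟨fun F _ y Z fst snd hp => ?_⟩⟩
  haveI := h.geometrically_irreducibleSpace _ _ _ hp
  infer_instance

variable {k : Type u} [Field k] {X : Scheme.{u}} (f : X ⟶ Spec (CommRingCat.of k))

theorem eq_mul_of_inv_mul_eq {G : Type*} [CommGroup G] {a b n m : G} (e : a⁻¹ * n = b⁻¹ * m) :
    a = b * (n * m⁻¹) := by
  rw [show n = a * (b⁻¹ * m) by rw [← e, mul_inv_cancel_left], mul_assoc a, mul_assoc, mul_inv_cancel, mul_one,
    mul_left_comm, mul_inv_cancel, mul_one]

/-- One section and no first cohomology for a class at a point. -/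
def GoodAt (T : Over (Spec (CommRingCat.of k))) (c : Pic (PicF.XT f T)) (t : T.left) : Prop :=
  Good (PicF.XTproj f T) (exists_module c).choose t

variable [IsProper f]

theorem goodAt_iff (T : Over (Spec (CommRingCat.of k))) {M : (PicF.XT f T).Modules} (hM : PicF.IsInvertible M)
    (t : T.left) : GoodAt f T (clsMod hM) t ↔ Good (PicF.XTproj f T) M t := by
  haveI : IsProper (PicF.XTproj f T) := inferInstanceAs (IsProper (pullback.snd f T.hom))
  obtain ⟨h1, h2⟩ := (exists_module (clsMod hM)).choose_spec
  exact good_congr _ h1 hM (n := 1) (by rw [map_one, mul_one]; exact h2) t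

theorem goodAt_pull {T T' : Over (Spec (CommRingCat.of k))} (g : T' ⟶ T) (c : Pic (PicF.XT f T)) (t' : T'.left) :
    GoodAt f T' (pull (PicF.XTmap f g) c) t' ↔ GoodAt f T c (g.left t') := by
  haveI : IsProper (PicF.XTproj f T) := inferInstanceAs (IsProper (pullback.snd f T.hom))
  obtain ⟨M, hM, rfl⟩ := exists_module c
  rw [← clsMod_pullback _ hM, goodAt_iff, goodAt_iff]
  exact good_pullback _ (RigDesc26.isPullback_XTmap f g) hM t'

theorem goodAt_twist (T : Over (Spec (CommRingCat.of k))) (c : Pic (PicF.XT f T)) (n : Pic T.left) (t : T.left) :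
    GoodAt f T (c * pull (PicF.XTproj f T) n) t ↔ GoodAt f T c t := by
  haveI : IsProper (PicF.XTproj f T) := inferInstanceAs (IsProper (pullback.snd f T.hom))
  obtain ⟨M, hM, rfl⟩ := exists_module c
  obtain ⟨M', hM', h'⟩ := exists_module (clsMod hM * pull (PicF.XTproj f T) n)
  rw [← h', goodAt_iff, goodAt_iff]
  exact good_congr _ hM' hM h' t

variable [Smooth f] [GeometricallyConnected f] (hdim : topologicalKrullDim X = 1)

include hdim in
theorem hdim_proj (T : Over (Spec (CommRingCat.of k))) (t : T.left) :
    topologicalKrullDim ↥((PicF.XTproj f T).fiber t) = 1 := by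
  refine (FibreBC.topologicalKrullDim_fiber (IsPullback.of_hasPullback f T.hom) t).trans ?_
  haveI : Subsingleton ↥(Spec (CommRingCat.of k)) := inferInstanceAs (Subsingleton (PrimeSpectrum k))
  have hr : Set.range (f.fiberι (T.hom t)) = Set.univ := by
    rw [Scheme.Hom.range_fiberι]; exact Set.eq_univ_of_forall fun a => Subsingleton.elim _ _
  rw [IsHomeomorph.topologicalKrullDim_eq _ (((f.fiberι (T.hom t)).isEmbedding.toHomeomorph).trans
    ((Homeomorph.setCongr hr).trans (Homeomorph.Set.univ _))).isHomeomorph]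
  exact hdim

theorem proj_props (T : Over (Spec (CommRingCat.of k))) :
    IsProper (PicF.XTproj f T) ∧ Smooth (PicF.XTproj f T) ∧ GeometricallyConnected (PicF.XTproj f T) :=
  ⟨inferInstanceAs (IsProper (pullback.snd f T.hom)), inferInstanceAs (Smooth (pullback.snd f T.hom)),
    inferInstanceAs (GeometricallyConnected (pullback.snd f T.hom))⟩

/-- The good locus of a class. -/
def goodLocus (T : Over (Spec (CommRingCat.of k))) (c : Pic (PicF.XT f T)) : T.left.Opens :=
  ⟨{t | GoodAt f T c t}, by
    obtain ⟨h1, h2, h3⟩ := proj_props f T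
    haveI := h1
    haveI := h2
    haveI := h3
    exact isOpen_good (PicF.XTproj f T) (exists_module c).choose_spec.choose⟩

include hdim in
theorem exists_relDivCl (T : Over (Spec (CommRingCat.of k))) (c : Pic (PicF.XT f T)) (hc : ∀ t, GoodAt f T c t) :
    ∃ (I : (PicF.XT f T).IdealSheafData) (h : IsRelDiv (PicF.XTproj f T) I) (n : Pic T.left),
      c = (idCl h)⁻¹ * pull (PicF.XTproj f T) n := by
  obtain ⟨h1, h2, h3⟩ := proj_props f T
  haveI := h1
  haveI := h2
  haveI := h3
  obtain ⟨M, hM, rfl⟩ := exists_module c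
  exact exists_relDiv (PicF.XTproj f T) (hdim_proj f hdim T) hM fun t => (goodAt_iff f T hM t).1 (hc t)

include hdim in
theorem relDivCl_unique (T : Over (Spec (CommRingCat.of k))) (c : Pic (PicF.XT f T)) (hc : ∀ t, GoodAt f T c t)
    {I J : (PicF.XT f T).IdealSheafData} (hI : IsRelDiv (PicF.XTproj f T) I) (hJ : IsRelDiv (PicF.XTproj f T) J)
    {n m : Pic T.left} (hIc : c = (idCl hI)⁻¹ * pull (PicF.XTproj f T) n)
    (hJc : c = (idCl hJ)⁻¹ * pull (PicF.XTproj f T) m) : I = J := by
  obtain ⟨h1, h2, h3⟩ := proj_props f T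
  haveI := h1
  haveI := h2
  haveI := h3
  obtain ⟨M, hM, hMc⟩ := exists_module ((idCl hI)⁻¹)
  have hgood : ∀ t, Good (PicF.XTproj f T) M t := fun t => (goodAt_iff f T hM t).1 (by
    rw [hMc, ← goodAt_twist f T _ n t, ← hIc]; exact hc t)
  refine relDiv_unique (PicF.XTproj f T) (hdim_proj f hdim T) hM hgood hI hJ hMc (n := n * m⁻¹) ?_
  rw [map_mul, map_inv]
  exact eq_mul_of_inv_mul_eq (hIc.symm.trans hJc)

end GrothLib.RigRep26
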