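import Groth.Agent.Lib.RigRep26.Pieces

/-!
# Representability of the rigidified Picard functor of a curve
-/

set_option autoImplicit false
set_option linter.all false
set_option backward.isDefEq.respectTransparency false
set_option maxHeartbeats 2000000
set_option synthInstance.maxHeartbeats 200000

universe u

open CategoryTheory CategoryTheory.Limits AlgebraicGeometry TopologicalSpace Opposite
open GrothLib.Cube GrothLib.RigDesc26
open _root_.FunFld (Divisor)

noncomputable section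

namespace GrothLib.RigRep26

variable {k : Type u} [Field k] {X : Scheme.{u}} (f : X ⟶ Spec (CommRingCat.of k))
  [IsProper f] [Smooth f] [GeometricallyConnected f]
  (σ : Spec (CommRingCat.of k) ⟶ X) (hσ : σ ≫ f = 𝟙 _) (hdim : topologicalKrullDim X = 1)

theorem isRelDiv_hilb (hdim : topologicalKrullDim X = 1) {d : ℕ} {T : Over (Spec (CommRingCat.of k))}
    (Z : HilbD.Obj f d T) : IsRelDiv (PicF.XTproj f T) Z.1 := by
  obtain ⟨h1, h2, h3⟩ := proj_props f T
  haveI := h1
  haveI := h2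
  haveI := h3
  haveI := SmCurveFam.smoothOfRelativeDimension_one (PicF.XTproj f T) (hdim_proj f hdim T)
  exact ⟨RelDiv.isEffCartierIdeal_of_isFinLocFree (PicF.XTproj f T) Z.2.1, Z.2.1⟩

theorem isRelDiv_comap (hdim : topologicalKrullDim X = 1) {T T' : Over (Spec (CommRingCat.of k))} (g : T' ⟶ T) {I : (PicF.XT f T).IdealSheafData}
    (h : IsRelDiv (PicF.XTproj f T) I) : IsRelDiv (PicF.XTproj f T') (I.comap (PicF.XTmap f g)) := by
  obtain ⟨h1, h2, h3⟩ := proj_props f T'
  haveI := h1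
  haveI := h2
  haveI := h3
  haveI := SmCurveFam.smoothOfRelativeDimension_one (PicF.XTproj f T') (hdim_proj f hdim T')
  have H := HilbFun.isPullback_subscheme_pull f g I
  have h' : Mor2.IsFinLocFree ((I.comap (PicF.XTmap f g)).subschemeι ≫ PicF.XTproj f T') :=
    ⟨MorphismProperty.of_isPullback H h.2.1, MorphismProperty.of_isPullback H h.2.2.1,
      MorphismProperty.of_isPullback H h.2.2.2⟩
  exact ⟨RelDiv.isEffCartierIdeal_of_isFinLocFree (PicF.XTproj f T') h', h'⟩

/-- The rigidification of a class. -/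
def rig (T : Over (Spec (CommRingCat.of k))) (x : Pic (PicF.XT f T)) : R f σ hσ T :=
  ⟨x * pull (PicF.XTproj f T) (pull (PicF.secT f σ hσ T) x)⁻¹, by
    rw [map_mul, pull_comp _ (PicF.XTproj f T), secT_proj, pull_id, mul_inv_cancel]⟩

theorem rig_eq {T : Over (Spec (CommRingCat.of k))} {x : R f σ hσ T} {y : Pic (PicF.XT f T)} {n : Pic T.left}
    (h : x.1 = y * pull (PicF.XTproj f T) n) : x = rig f σ hσ T y := by
  refine Subtype.ext ?_
  have h2 := congrArg (pull (PicF.secT f σ hσ T)) h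
  rw [x.2, map_mul, pull_comp _ (PicF.XTproj f T), secT_proj, pull_id] at h2
  have hn : n = (pull (PicF.secT f σ hσ T) y)⁻¹ := eq_inv_of_mul_eq_one_right h2.symm
  show x.1 = y * pull (PicF.XTproj f T) (pull (PicF.secT f σ hσ T) y)⁻¹
  rw [h, hn]

theorem rig_pl {T T' : Over (Spec (CommRingCat.of k))} (g : T' ⟶ T) (x : Pic (PicF.XT f T)) :
    (rig f σ hσ T x).pl g = rig f σ hσ T' (pull (PicF.XTmap f g) x) := by
  refine rig_eq f σ hσ (n := pull g.left (pull (PicF.secT f σ hσ T) x)⁻¹) ?_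
  show pull (PicF.XTmap f g) (x * pull (PicF.XTproj f T) (pull (PicF.secT f σ hσ T) x)⁻¹) = _
  rw [map_mul, pull_comp, XTmap_proj, ← pull_comp]

variable [IsIntegral X] [CurveRR.RegCurve X]

/-- Divisors on the curve. -/
def Idx : Type u :=
  letI : X.Over (Spec (CommRingCat.of k)) := ⟨f⟩
  Divisor k X.functionField

/-- The twist by a divisor. -/
def tw (T : Over (Spec (CommRingCat.of k))) (D : Idx f) :
    Pic (PicF.XT f T) :=
  letI : X.Over (Spec (CommRingCat.of k)) := ⟨f⟩
  haveI : IsProper (X ↘ Spec (CommRingCat.of k)) := ‹IsProper f›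
  pull (pullback.fst f T.hom) (clsMod (CurveRR.isInvertible_oD k D))

theorem tw_pull {T T' : Over (Spec (CommRingCat.of k))} (g : T' ⟶ T)
    (D : Idx f) :
    pull (PicF.XTmap f g) (tw f T D) = tw f T' D := by
  rw [tw, tw, pull_comp, show PicF.XTmap f g ≫ pullback.fst f T.hom = pullback.fst f T'.hom from
    (pullback.lift_fst _ _ _).trans (Category.comp_id _)]

include hdim in
theorem exists_cover [IsSepClosed k] (T : Over (Spec (CommRingCat.of k))) (c : Pic (PicF.XT f T)) (t : T.left) :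
    ∃ D, GoodAt f T (c * tw f T D) t := by
  letI : X.Over (Spec (CommRingCat.of k)) := ⟨f⟩
  haveI : IsProper (X ↘ Spec (CommRingCat.of k)) := ‹IsProper f›
  obtain ⟨φ, hφ⟩ : ∃ φ : CommRingCat.of k ⟶ T.left.residueField t,
      Spec.map φ = T.left.fromSpecResidueField t ≫ T.hom := ⟨_, Spec.map_preimage _⟩
  let K := T.left.residueField t
  letI : Algebra k K := φ.hom.toAlgebra
  let p := PicF.XTproj f T
  letI : (p.fiber t).Over (Spec (CommRingCat.of K)) := ⟨p.fiberToSpecResidueField t⟩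
  let g : p.fiber t ⟶ X := p.fiberι t ≫ pullback.fst f T.hom
  have hpb : IsPullback g (p.fiber t ↘ Spec (CommRingCat.of K)) (X ↘ Spec (CommRingCat.of k))
      (Spec.map (CommRingCat.ofHom (algebraMap k K))) := by
    have h := (IsPullback.of_hasPullback p (T.left.fromSpecResidueField t)).paste_horiz
      (IsPullback.of_hasPullback f T.hom)
    rw [← hφ] at h
    exact h
  obtain ⟨M, hM, rfl⟩ := exists_module c
  have hL : PicF.IsInvertible (CohIII.fiberMod p M t) := Ample.isInvertible_pullback _ hM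
  obtain ⟨L₀, hL₀, h0, h1⟩ := Groth.Agent.S6487.result k X ⟨‹IsProper f›, ‹Smooth f›, ‹IsIntegral X›, hdim⟩ K
    (p.fiber t) g hpb (CohIII.fiberMod p M t) hL
  obtain ⟨D, ⟨e⟩⟩ := CurveRR.exists_iso_oD k hL₀
  refine ⟨D, ?_⟩
  obtain ⟨N, hN, hNc⟩ := exists_module (clsMod hM * tw f T D)
  rw [← hNc, goodAt_iff]
  haveI : IsProper p := inferInstanceAs (IsProper (pullback.snd f T.hom))
  have hL' := Ample.isInvertible_pullback g hL₀
  obtain ⟨i⟩ : Nonempty (CohIII.fiberMod p N t ≅
      CohB1.tensorMod (CohIII.fiberMod p M t) ((Scheme.Modules.pullback g).obj L₀)) := by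
    refine (Cube.clsMod_eq_iff (Ample.isInvertible_pullback _ hN) (Ample.isInvertible_tensorMod hL hL')).1 ?_
    rw [Cube.clsMod_tensorMod hL hL', clsMod_pullback _ hN, hNc, clsMod_pullback _ hM, clsMod_pullback _ hL₀,
      map_mul, tw, pull_comp, (Cube.clsMod_eq_iff hL₀ (CurveRR.isInvertible_oD k D)).2 ⟨e⟩]
  constructor
  · haveI := InvExt.isQuasicoherent_of_isInvertible hN
    exact BCCoh.fiberRank_eq_zero_of_subsingleton p N 1 t
      ((SmCurveFam.fiberRank_congr p N 1 t i).2.2 h1)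
  · rw [(SmCurveFam.fiberRank_congr p N 0 t i).1]
    exact h0

section data

variable [IsSepClosed k] (hX : Curve.IsSmoothProperCurve k X f) [GeometricallyIrreducible f]

/-- The Hilbert scheme of `d` points. -/
def Hs (d : ℕ) : Over (Spec (CommRingCat.of k)) := (Groth.Agent.S1170.result k X f hX d).choose

def Zs (d : ℕ) : HilbD.Obj f d (Hs f hX d) := (Groth.Agent.S1170.result k X f hX d).choose_spec.choose

theorem isUniversal_Zs (d : ℕ) : HilbD.IsUniversal f d (Hs f hX d) (Zs f hX d) :=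
  (Groth.Agent.S1170.result k X f hX d).choose_spec.choose_spec.1

/-- The bundle of the universal divisor. -/
def univ (d : ℕ) : Pic (PicF.XT f (Hs f hX d)) := (idCl (isRelDiv_hilb f hX.2.2.2 (Zs f hX d)))⁻¹

/-- The piece of degree `d`. -/
def U₀ (d : ℕ) : Over (Spec (CommRingCat.of k)) :=
  AbDual.ovr (Hs f hX d) (goodLocus f (Hs f hX d) (univ f hX d)).ι

def j₀ (d : ℕ) : U₀ f hX d ⟶ Hs f hX d := AbDual.ovrHom _ _

/-- The locus where the twisted class is good. -/
def W₀ (T : Over (Spec (CommRingCat.of k))) (c : Pic (PicF.XT f T)) : Over (Spec (CommRingCat.of k)) :=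
  AbDual.ovr T (goodLocus f T c).ι

include hdim in
theorem exists_div_W₀ (T : Over (Spec (CommRingCat.of k))) (c : Pic (PicF.XT f T)) :
    ∃ (I : (PicF.XT f (W₀ f T c)).IdealSheafData) (h : IsRelDiv (PicF.XTproj f (W₀ f T c)) I)
      (n : Pic (W₀ f T c).left),
      pull (PicF.XTmap f (AbDual.ovrHom T (goodLocus f T c).ι)) c = (idCl h)⁻¹ * pull (PicF.XTproj f (W₀ f T c)) n :=
  exists_relDivCl f hdim (W₀ f T c) _ fun w => (goodAt_pull f _ c w).2 w.2

/-- The divisor of a class over its good locus. -/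
def divW (T : Over (Spec (CommRingCat.of k))) (c : Pic (PicF.XT f T)) : (PicF.XT f (W₀ f T c)).IdealSheafData :=
  (exists_div_W₀ f hdim T c).choose

/-- The open where the divisor has degree `d`. -/
def degLocus (T : Over (Spec (CommRingCat.of k))) (c : Pic (PicF.XT f T)) (d : ℕ) : T.left.Opens :=
  (goodLocus f T c).ι ''ᵁ ⟨{w | ((divW f hdim T c).subschemeι ≫ PicF.XTproj f (W₀ f T c)).finrank w = d}, by
    obtain ⟨h1, h2, h3⟩ := ((exists_div_W₀ f hdim T c).choose_spec.choose).2
    haveI : IsFinite ((divW f hdim T c).subschemeι ≫ PicF.XTproj f (W₀ f T c)) := h1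
    haveI : Flat ((divW f hdim T c).subschemeι ≫ PicF.XTproj f (W₀ f T c)) := h2
    haveI : LocallyOfFinitePresentation ((divW f hdim T c).subschemeι ≫ PicF.XTproj f (W₀ f T c)) := h3
    exact (Scheme.Hom.isLocallyConstant_finrank
      (f := (divW f hdim T c).subschemeι ≫ PicF.XTproj f (W₀ f T c))).isOpen_fiber d⟩

include hdim in
/-- Over the locus of degree `d` the class comes uniquely from the piece. -/
theorem lift_iff_aux (d : ℕ) {T T' : Over (Spec (CommRingCat.of k))} (c : Pic (PicF.XT f T)) (h : T' ⟶ T) :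
    (∃ (g : T' ⟶ U₀ f hX d) (n : Pic T'.left), pull (PicF.XTmap f h) c =
        pull (PicF.XTmap f (g ≫ j₀ f hX d)) (univ f hX d) * pull (PicF.XTproj f T') n) ↔
      Set.range h.left ⊆ (degLocus f hdim T c d : Set T.left) := by
  obtain ⟨hJ, n₁, hJc⟩ := (exists_div_W₀ f hdim T c).choose_spec
  change IsRelDiv (PicF.XTproj f (W₀ f T c)) (divW f hdim T c) at hJ
  set J := divW f hdim T c
  constructor
  · rintro ⟨g, n, hg⟩
    set G := g ≫ j₀ f hX d
    have hgood : ∀ t', GoodAt f T' (pull (PicF.XTmap f h) c) t' := fun t' => by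
      rw [hg, goodAt_twist, goodAt_pull]
      exact (g.left t').2
    have hr : Set.range h.left ⊆ Set.range (goodLocus f T c).ι := by
      rw [Scheme.Opens.range_ι]
      rintro _ ⟨t', rfl⟩
      exact (goodAt_pull f h c t').1 (hgood t')
    let h' : T' ⟶ W₀ f T c := Over.homMk (IsOpenImmersion.lift (goodLocus f T c).ι h.left hr) (by
      show IsOpenImmersion.lift _ _ _ ≫ (goodLocus f T c).ι ≫ T.hom = T'.hom
      rw [IsOpenImmersion.lift_fac_assoc, Over.w h])
    have hh : h' ≫ AbDual.ovrHom T (goodLocus f T c).ι = h := Over.OverMorphism.ext (IsOpenImmersion.lift_fac _ _ _)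
    have hZ := isRelDiv_hilb f hdim (Zs f hX d)
    have hK₁ := isRelDiv_comap f hdim G hZ
    have hK₂ := isRelDiv_comap f hdim h' hJ
    have e : pull (PicF.XTmap f h) c = (idCl hK₂)⁻¹ * pull (PicF.XTproj f T') (pull h'.left n₁) := by
      rw [← hh, ← RigDesc26.XTmap_comp, ← pull_comp]
      erw [hJc]
      rw [map_mul, map_inv, ← idCl_comap (PicF.XTmap f h') hJ hK₂, pull_comp, XTmap_proj, ← pull_comp]
    have e' : pull (PicF.XTmap f h) c = (idCl hK₁)⁻¹ * pull (PicF.XTproj f T') n := by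
      rw [hg, univ, map_inv, ← idCl_comap (PicF.XTmap f G) hZ hK₁]
    have hKK := relDivCl_unique f hdim T' _ hgood hK₁ hK₂ e' e
    rintro _ ⟨t', rfl⟩
    refine ⟨h'.left t', ?_, congrArg (fun q : T' ⟶ T => q.left t') hh⟩
    show (J.subschemeι ≫ PicF.XTproj f (W₀ f T c)).finrank (h'.left t') = d
    have H₁ := HilbFun.isPullback_subscheme_pull f G (Zs f hX d).1
    have H₂ := HilbFun.isPullback_subscheme_pull f h' J
    haveI := hJ.2.1
    haveI := hJ.2.2.1
    haveI := hJ.2.2.2
    haveI := (Zs f hX d).2.1.1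
    haveI := (Zs f hX d).2.1.2.1
    haveI := (Zs f hX d).2.1.2.2
    rw [← Scheme.Hom.finrank_of_isPullback _ _ _ _ H₂, ← hKK, Scheme.Hom.finrank_of_isPullback _ _ _ _ H₁]
    exact (Zs f hX d).2.2 _
  · intro hr
    have hr' : Set.range h.left ⊆ Set.range (goodLocus f T c).ι := fun x hx => by
      obtain ⟨w, -, hw⟩ := hr hx
      exact ⟨w, hw⟩
    let h' : T' ⟶ W₀ f T c := Over.homMk (IsOpenImmersion.lift (goodLocus f T c).ι h.left hr') (by
      show IsOpenImmersion.lift _ _ _ ≫ (goodLocus f T c).ι ≫ T.hom = T'.hom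
      rw [IsOpenImmersion.lift_fac_assoc, Over.w h])
    have hh : h' ≫ AbDual.ovrHom T (goodLocus f T c).ι = h := Over.OverMorphism.ext (IsOpenImmersion.lift_fac _ _ _)
    have hK₂ := isRelDiv_comap f hdim h' hJ
    have hdeg : Mor2.IsFinLocFreeOfDeg d ((J.comap (PicF.XTmap f h')).subschemeι ≫ PicF.XTproj f T') := by
      refine ⟨hK₂.2, fun t' => ?_⟩
      haveI := hJ.2.1
      haveI := hJ.2.2.1
      haveI := hJ.2.2.2
      rw [Scheme.Hom.finrank_of_isPullback _ _ _ _ (HilbFun.isPullback_subscheme_pull f h' J)]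
      obtain ⟨w, hw, hw'⟩ := hr ⟨t', rfl⟩
      have e0 : h'.left t' = w := (goodLocus f T c).ι.isOpenEmbedding.injective
        ((congrArg (fun q : T' ⟶ T => q.left t') hh).trans hw'.symm)
      rw [e0]
      exact hw
    obtain ⟨G, hG, -⟩ := isUniversal_Zs f hX d T' ⟨_, hdeg⟩
    rw [HilbFun.pull_eq_comap] at hG
    have hZ := isRelDiv_hilb f hdim (Zs f hX d)
    have hK₁ := isRelDiv_comap f hdim G hZ
    have e : pull (PicF.XTmap f h) c =
        pull (PicF.XTmap f G) (univ f hX d) * pull (PicF.XTproj f T') (pull h'.left n₁) := by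
      rw [← hh, ← RigDesc26.XTmap_comp, ← pull_comp]
      erw [hJc]
      rw [map_mul, map_inv, ← idCl_comap (PicF.XTmap f h') hJ hK₂, pull_comp, XTmap_proj, ← pull_comp, univ, map_inv,
        ← idCl_comap (PicF.XTmap f G) hZ hK₁, idCl_congr hK₁ hK₂ hG]
    have hrG : Set.range G.left ⊆ Set.range (goodLocus f (Hs f hX d) (univ f hX d)).ι := by
      rw [Scheme.Opens.range_ι]
      rintro _ ⟨t', rfl⟩
      have hg : GoodAt f T' (pull (PicF.XTmap f h) c) t' := by
        rw [goodAt_pull]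
        obtain ⟨w, -, hw⟩ := hr' ⟨t', rfl⟩ |> fun hx => (⟨hx.choose, trivial, hx.choose_spec⟩ :
          ∃ w, True ∧ (goodLocus f T c).ι w = h.left t')
        rw [← hw]
        exact w.2
      rw [e, goodAt_twist, goodAt_pull] at hg
      exact hg
    let g : T' ⟶ U₀ f hX d := Over.homMk (IsOpenImmersion.lift _ G.left hrG) (by
      show IsOpenImmersion.lift _ _ _ ≫ (goodLocus f _ _).ι ≫ (Hs f hX d).hom = T'.hom
      rw [IsOpenImmersion.lift_fac_assoc, Over.w G])
    have hgG : g ≫ j₀ f hX d = G := Over.OverMorphism.ext (IsOpenImmersion.lift_fac _ _ _)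
    exact ⟨g, _, by rw [hgG]; exact e⟩

include hdim in
theorem uniq_aux (d : ℕ) {T : Over (Spec (CommRingCat.of k))} (g g' : T ⟶ U₀ f hX d) {n : Pic T.left}
    (e : pull (PicF.XTmap f (g ≫ j₀ f hX d)) (univ f hX d) =
      pull (PicF.XTmap f (g' ≫ j₀ f hX d)) (univ f hX d) * pull (PicF.XTproj f T) n) : g = g' := by
  have hZ := isRelDiv_hilb f hdim (Zs f hX d)
  have hK := isRelDiv_comap f hdim (g ≫ j₀ f hX d) hZ
  have hK' := isRelDiv_comap f hdim (g' ≫ j₀ f hX d) hZ
  have hKK := relDivCl_unique f hdim T (pull (PicF.XTmap f (g ≫ j₀ f hX d)) (univ f hX d))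
    (fun t => (goodAt_pull f _ _ t).2 (g.left t).2) hK hK' (n := 1) (m := n)
    (by rw [map_one, mul_one, univ, map_inv, ← idCl_comap _ hZ hK])
    (by rw [e, univ, map_inv, ← idCl_comap _ hZ hK'])
  have h : g ≫ j₀ f hX d = g' ≫ j₀ f hX d :=
    (isUniversal_Zs f hX d T ⟨_, HilbFun.isFinLocFreeOfDeg_pull f (g ≫ j₀ f hX d) (Zs f hX d).2⟩).unique rfl (by
      show HilbD.pull f (g' ≫ j₀ f hX d) (Zs f hX d).1 = HilbD.pull f (g ≫ j₀ f hX d) (Zs f hX d).1
      rw [HilbFun.pull_eq_comap, HilbFun.pull_eq_comap, hKK])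
  refine Over.OverMorphism.ext ((cancel_mono (goodLocus f (Hs f hX d) (univ f hX d)).ι).1 ?_)
  exact congrArg CommaMorphism.left h

end data

end GrothLib.RigRep26
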